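import Groth.Agent.H7CB.Local
import Groth.Agent.H25Par.FiniteSupport
import Groth.Agent.H17.FLI.SmoothDual
import Groth.Agent.H24Hilb.Normal
import Groth.Agent.LeadFF.Coh
import Groth.Agent.H17.QuotSch.TwistSub

/-!
# Classes induced from a larger ideal and the Cayley-Bacharach property
-/

set_option autoImplicit false
set_option linter.style.haveILetI false
set_option linter.unusedSectionVars false
set_option backward.isDefEq.respectTransparency false
set_option maxHeartbeats 1600000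
set_option synthInstance.maxHeartbeats 400000

universe u

open CategoryTheory CategoryTheory.Limits AlgebraicGeometry TopologicalSpace Opposite

noncomputable section

namespace Groth.Agent.H7CB

open Groth.Agent.H06Mod

attribute [local instance 10000] H10Coh.hasSheafifyAb H10Coh.hasWeakSheafifyAb H10Coh.hasExtAb H10Coh.enoughInjAb

variable {k : Type u} [Field k] {X : Scheme.{u}} [X.Over (Spec (CommRingCat.of k))]

/-- Global sections as classes in degree zero. -/
def elem {M : X.Modules} (σ : Coh.structureModule X ⟶ M) : Coh.HH X M 0 :=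
  (H10Coh.HH0Equiv M).symm (H24Hilb.homUnitEquiv M σ)

theorem elem_surjective (M : X.Modules) : Function.Surjective (elem (X := X) (M := M)) := fun x =>
  ⟨(H24Hilb.homUnitEquiv M).symm (H10Coh.HH0Equiv M x), by simp [elem]⟩

theorem elem_comp {M N : X.Modules} (σ : Coh.structureModule X ⟶ M) (φ : M ⟶ N) :
    elem (σ ≫ φ) = Canon.HHlin k φ 0 (elem σ) := by
  apply (H10Coh.HH0Equiv N).injective
  refine (AddEquiv.apply_symm_apply _ _).trans (Eq.trans ?_ (H17.Seshadri.HH0Equiv_natural φ _).symm)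
  exact congrArg (φ.app ⊤) (AddEquiv.apply_symm_apply (H10Coh.HH0Equiv M) (H24Hilb.homUnitEquiv M σ)).symm

theorem elem_eq_zero_iff {M : X.Modules} (σ : Coh.structureModule X ⟶ M) : elem σ = 0 ↔ σ = 0 :=
  ⟨fun h => (H24Hilb.homUnitEquiv M).injective
    ((AddEquiv.symm _).injective (h.trans (map_zero (H10Coh.HH0Equiv M).symm).symm) |>.trans (map_zero _).symm),
    fun h => by rw [h, elem, map_zero, map_zero]⟩

/-- A class is induced along `f` when its functional kills the kernel of `H¹(f)`. -/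
theorem exists_comp_eq [HasExt.{u} X.Modules] {ω : X.Modules} (t : Coh.HH X ω 2 →ₗ[k] k)
    (ht : ∀ F : X.Modules, Coh.IsCoh F → Function.Bijective (H17.DualSh.theta t F (one_add_one_eq_two : 1 + 1 = 2)))
    {S : ShortComplex X.Modules} (hS : S.ShortExact) (h₁ : Coh.IsCoh S.X₁) (h₂ : Coh.IsCoh S.X₂)
    (h₃ : Subsingleton (Coh.HH X S.X₃ 1)) (ξ : Abelian.Ext.{u} S.X₁ ω 1)
    (hξ : ∀ x, Canon.HHlin k S.f 1 x = 0 → H17.DualSh.theta t S.X₁ (one_add_one_eq_two : 1 + 1 = 2) ξ x = 0) :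
    ∃ η : Abelian.Ext.{u} S.X₂ ω 1, ξ = (Abelian.Ext.mk₀ S.f).comp η (zero_add 1) := by
  let f := Canon.HHlin k S.f 1
  have hf : Function.Surjective f := fun x =>
    Abelian.Ext.covariant_sequence_exact₂ _ (H10Coh.shortExact_sh hS) x (h₃.elim _ _)
  let a := H17.DualSh.theta t S.X₁ (one_add_one_eq_two : 1 + 1 = 2) ξ
  let ψ : Coh.HH X S.X₂ 1 →ₗ[k] k :=
    ((LinearMap.ker f).liftQ a fun x hx => hξ x hx) ∘ₗ (f.quotKerEquivOfSurjective hf).symm.toLinearMap
  obtain ⟨η, hη⟩ := (ht _ h₂).2 ψ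
  refine ⟨η, (ht _ h₁).1 (LinearMap.ext fun x => ?_)⟩
  rw [H17.DualSh.theta_mk₀_comp, hη]
  show a x = ((LinearMap.ker f).liftQ a fun x hx => hξ x hx) ((f.quotKerEquivOfSurjective hf).symm (f x))
  rw [show (f.quotKerEquivOfSurjective hf).symm (f x) = Submodule.Quotient.mk x from
    (f.quotKerEquivOfSurjective hf).injective (by rw [LinearEquiv.apply_symm_apply]; rfl)]
  rfl

section sequence

variable [IsAlgClosed k] [IsProper (X ↘ Spec (CommRingCat.of k))]
  {S : ShortComplex X.Modules} (hS : S.ShortExact) {z : X} (hz : IsClosed ({z} : Set X))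
  (hoff : ∀ x, x ≠ z → Subsingleton (S.X₃.presheaf.stalk x))

include hz hoff in
theorem subsingleton_H1 : Subsingleton (Coh.HH X S.X₃ 1) :=
  H25Par.subsingleton_HH_of_finite_support S.X₃ (Set.finite_singleton z) (fun y hy => by
    rw [Set.mem_singleton_iff.1 hy]; exact hz) (fun y hy => hoff y hy) Nat.one_pos

include hS hz hoff in
/-- The kernel is nonzero when all sections die in the cokernel. -/
theorem exists_ne_zero_of_sections (hne : Nontrivial (S.X₃.presheaf.stalk z))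
    (h : ∀ σ : Coh.structureModule X ⟶ S.X₂, σ ≫ S.g = 0) :
    ∃ x : Coh.HH X S.X₁ 1, x ≠ 0 ∧ Canon.HHlin k S.f 1 x = 0 := by
  obtain ⟨v, hv⟩ := exists_ne (0 : S.X₃.presheaf.stalk z)
  obtain ⟨U, hU, t, rfl⟩ := S.X₃.presheaf.exists_germ_eq v
  obtain ⟨s, rfl⟩ := H25Par.flasque_of_finite_support (H10Coh.sh S.X₃) (Set.finite_singleton z)
    (fun y hy => by rw [Set.mem_singleton_iff.1 hy]; exact hz) (fun y hy => hoff y hy) (le_top : U ≤ ⊤) t
  let y := (H10Coh.HH0Equiv S.X₃).symm s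
  refine ⟨LeadFF.dl hS 0 y, fun h0 => ?_, LeadFF.Hm_dl hS 0 y⟩
  obtain ⟨y', hy'⟩ := LeadFF.exists_Hm_g hS 0 y h0
  obtain ⟨σ, rfl⟩ := elem_surjective S.X₂ y'
  have h1 : elem (σ ≫ S.g) = y := (elem_comp (k := k) σ S.g).trans hy'
  rw [h σ, (elem_eq_zero_iff _).2 rfl] at h1
  have hs : s = 0 := (H10Coh.HH0Equiv S.X₃).symm.injective (h1.symm.trans (map_zero _).symm)
  refine hv ?_
  rw [hs]
  exact (congrArg (S.X₃.presheaf.germ U z hU) (map_zero ((H10Coh.sh S.X₃).obj.map (homOfLE (le_top : U ≤ ⊤)).op).hom)).trans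
    (map_zero _)

include hS hz hoff in
/-- The kernel vanishes when some section survives in a one-dimensional cokernel. -/
theorem injective_of_section (v₀ : S.X₃.presheaf.stalk z)
    (hv₀ : ∀ v, ∃ a : k, v = H26TF1.scalStalk (k := k) z a • v₀)
    (σ : Coh.structureModule X ⟶ S.X₂) (hσ : σ ≫ S.g ≠ 0) :
    ∀ x : Coh.HH X S.X₁ 1, Canon.HHlin k S.f 1 x = 0 → x = 0 := by
  intro x hx
  obtain ⟨y, rfl⟩ := Abelian.Ext.covariant_sequence_exact₁ _ (H10Coh.shortExact_sh hS) x hx (n₀ := 0) rfl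
  obtain ⟨τ, rfl⟩ := elem_surjective S.X₃ y
  have hone : ∀ ρ : Coh.structureModule X ⟶ S.X₃, stalkLin ρ z (H28Surf.oneAt z) = 0 → ρ = 0 := by
    intro ρ hρ
    refine H29Omega.eq_zero_of_stalkLin _ fun x a => ?_
    by_cases hx : x = z
    · subst hx
      obtain ⟨r, rfl⟩ := (H28Surf.oneAt_bijective x).2 a
      rw [map_smul, hρ, smul_zero]
    · exact (hoff x hx).elim _ _
  obtain ⟨b, hb⟩ := hv₀ (stalkLin (σ ≫ S.g) z (H28Surf.oneAt z))
  obtain ⟨a, ha⟩ := hv₀ (stalkLin τ z (H28Surf.oneAt z))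
  have hb0 : b ≠ 0 := fun h => hσ (hone _ (by rw [hb, h, map_zero, zero_smul]))
  have hτ : (σ ≫ Formal.smulMod k S.X₂ (a / b)) ≫ S.g = τ := by
    rw [Category.assoc, H26TF1.smulMod_comp, ← Category.assoc, ← sub_eq_zero]
    apply hone
    rw [H26TF1.stalkLin_sub, sub_eq_zero, H29Omega.stalkLin_comp, H26TF1.stalkLin_smulMod, hb, ha, smul_smul,
      ← map_mul, div_mul_cancel₀ _ hb0]
  show (elem τ).comp (H10Coh.shortExact_sh hS).extClass rfl = 0
  rw [← hτ, elem_comp (k := k)]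
  show ((elem (σ ≫ Formal.smulMod k S.X₂ (a / b))).comp (Abelian.Ext.mk₀ ((H10Coh.shF X).map S.g)) (add_zero 0)).comp
    (H10Coh.shortExact_sh hS).extClass rfl = 0
  exact ((Abelian.Ext.comp_assoc_of_second_deg_zero _ _ _ _).trans
    (congrArg (fun w => (elem (σ ≫ Formal.smulMod k S.X₂ (a / b))).comp w rfl)
      (H10Coh.shortExact_sh hS).comp_extClass)).trans (Abelian.Ext.comp_zero _ _ _ _ _)

end sequence

end Groth.Agent.H7CB
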