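import Groth.Agent.H7CB.StalkIdeal
import Groth.Agent.H7CB.Coh
import Groth.Agent.H10Coh.Proper2
import Groth.Agent.H25Par.GPDeg

/-!
# Evaluation of sections on a finite subscheme
-/

set_option autoImplicit false
set_option linter.style.haveILetI false
set_option linter.unusedSectionVars false
set_option backward.isDefEq.respectTransparency false
set_option maxHeartbeats 1600000
set_option synthInstance.maxHeartbeats 400000

universe u

open CategoryTheory CategoryTheory.Limits AlgebraicGeometry TopologicalSpace Opposite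
open scoped TensorProduct

noncomputable section

namespace Groth.Agent.H7CB

open Groth.Agent.H06Mod

attribute [local instance 10000] H10Coh.hasSheafifyAb H10Coh.hasWeakSheafifyAb H10Coh.hasExtAb H10Coh.enoughInjAb

variable {k : Type u} [Field k] {X : Scheme.{u}} [X.Over (Spec (CommRingCat.of k))]

/-- The local rings are algebras over the ground field. -/
@[instance_reducible]
def stalkAlgebra (x : X) : Algebra k (X.presheaf.stalk x) := (H26TF1.scalStalk (k := k) x).toAlgebra

attribute [local instance] stalkAlgebra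

/-- The ring of functions on the finite subscheme, as a product over its points. -/
abbrev fun_ (S : Finset X) (I : X.IdealSheafData) : Type u :=
  (z : S) → X.presheaf.stalk (z : X) ⧸ stI I (z : X)

variable {M : X.Modules} (el : ∀ x : X, M.presheaf.stalk x)
  (hel : ∀ x, Function.Bijective fun r : X.presheaf.stalk x => r • el x)

/-- The coefficient with respect to a generator. -/
def coef (x : X) : M.presheaf.stalk x ≃ₗ[X.presheaf.stalk x] X.presheaf.stalk x :=
  (LinearEquiv.ofBijective (LinearMap.toSpanSingleton _ _ (el x)) (hel x)).symm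

theorem coef_smul_el (x : X) (r : X.presheaf.stalk x) : coef el hel x (r • el x) = r :=
  (LinearEquiv.symm_apply_eq _).2 rfl

theorem smul_coef (x : X) (v : M.presheaf.stalk x) : coef el hel x v • el x = v :=
  (LinearEquiv.ofBijective (LinearMap.toSpanSingleton _ _ (el x)) (hel x)).apply_symm_apply v

include k in
theorem germ_HH0_smul (N : X.Modules) (c : k) (a : Coh.HH X N 0) (x : X) :
    N.presheaf.germ ⊤ x trivial (H10Coh.HH0Equiv N (c • a)) =
      H26TF1.scalStalk (k := k) x c • N.presheaf.germ ⊤ x trivial (H10Coh.HH0Equiv N a) :=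
  (congrArg (N.presheaf.germ ⊤ x trivial)
    (H10Coh.HH0Equiv_smul N (Coh.toGlobal (X ↘ Spec (CommRingCat.of k)) c) a)).trans (H06Mod.germ_smul N ⊤ trivial _ _)

variable (k) in
/-- Evaluation on the finite subscheme. -/
def evZ (S : Finset X) (I : X.IdealSheafData) : Coh.HH X M 0 →ₗ[k] fun_ S I where
  toFun a z := Ideal.Quotient.mk _ (coef el hel (z : X) (M.presheaf.germ ⊤ (z : X) trivial (H10Coh.HH0Equiv M a)))
  map_add' a b := funext fun z => by simp only [map_add, Pi.add_apply]
  map_smul' c a := funext fun z => by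
    rw [germ_HH0_smul, map_smul, smul_eq_mul, map_mul, RingHom.id_apply, Pi.smul_apply, Algebra.smul_def]
    rfl

theorem germ_HH0_elem {N : X.Modules} (σ : Coh.structureModule X ⟶ N) (x : X) :
    N.presheaf.germ ⊤ x trivial (H10Coh.HH0Equiv N (elem σ)) = stalkLin σ x (H28Surf.oneAt x) := by
  rw [show H10Coh.HH0Equiv N (elem σ) = σ.app (⊤ : X.Opens) (1 : Γ(X, ⊤)) from AddEquiv.apply_symm_apply _ _]
  exact (stalkLin_germ σ x (⊤ : X.Opens) trivial _).symm

include hel in
theorem red_stalk_eq_zero_iff (hM : PicF.IsInvertible M) (I : X.IdealSheafData) (x : X) (r : X.presheaf.stalk x) :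
    stalkLin (red M I) x (r • el x) = 0 ↔ r ∈ stI I x := by
  let q := ClSub.toSubscheme I
  haveI := H10Coh.epi_toSubscheme I
  have hS := H10Coh.Hyper.idealSeq_shortExact I
  obtain ⟨w, hred⟩ := shortExact_red hM I
  obtain ⟨e⟩ := nonempty_stalk_tensor (hel x) (ClSub.quotMod I)
  rw [map_smul, ← toSubscheme_stalk_eq_zero_iff, map_smul]
  constructor
  · intro hg
    obtain ⟨u, hu⟩ := H06Mod.stalk_surjective _ hred x (e.symm (stalkLin q x (H28Surf.oneAt x)))
    obtain ⟨s, rfl⟩ := (hel x).2 u
    apply e.symm.injective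
    rw [map_smul, map_zero, ← hu, map_smul, smul_comm]
    exact (congrArg (s • ·) hg).trans (smul_zero s)
  · intro hg
    apply e.injective
    rw [map_smul, map_zero]
    obtain ⟨u, hu⟩ := H06Mod.stalk_surjective _ hS x (e (stalkLin (red M I) x (el x)))
    obtain ⟨s, rfl⟩ := (H28Surf.oneAt_bijective x).2 u
    rw [← hu, map_smul, smul_comm]
    exact (congrArg (s • ·) hg).trans (smul_zero s)

theorem evZ_elem_eq_zero_iff (hM : PicF.IsInvertible M) (S : Finset X) (I : X.IdealSheafData)
    (hS : (I.support : Set X) ⊆ S) (σ : Coh.structureModule X ⟶ M) :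
    evZ k el hel S I (elem σ) = 0 ↔ σ ≫ red M I = 0 := by
  have key : ∀ x, stalkLin (σ ≫ red M I) x (H28Surf.oneAt x) = 0 ↔
      coef el hel x (stalkLin σ x (H28Surf.oneAt x)) ∈ stI I x := fun x => by
    rw [H29Omega.stalkLin_comp, ← red_stalk_eq_zero_iff el hel hM I x, smul_coef]
  constructor
  · intro h
    refine H29Omega.eq_zero_of_stalkLin _ fun x a => ?_
    obtain ⟨r, rfl⟩ := (H28Surf.oneAt_bijective x).2 a
    rw [map_smul, (key x).2 ?_, smul_zero]
    by_cases hx : x ∈ S
    · have h' := congrFun h ⟨x, hx⟩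
      rw [← germ_HH0_elem σ x]
      exact Ideal.Quotient.eq_zero_iff_mem.1 h'
    · rw [stI_eq_top I fun hx' => hx (hS hx')]
      trivial
  · intro h
    refine funext fun z => ?_
    refine Ideal.Quotient.eq_zero_iff_mem.2 ?_
    rw [germ_HH0_elem]
    exact (key _).1 (by rw [h]; exact H17.KoszTwist.stalkLin_zero _ _)

variable [IsProper (X ↘ Spec (CommRingCat.of k))]

/-- The rank of evaluation. -/
theorem finrank_range_evZ (hM : PicF.IsInvertible M) (S : Finset X) (I : X.IdealSheafData)
    (hS : (I.support : Set X) ⊆ S) :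
    (Module.finrank k (LinearMap.range (evZ k el hel S I)) : ℤ) =
      (Module.finrank k (Coh.HH X M 0) : ℤ) -
        (Module.finrank k (Coh.HH X (CohB1.tensorMod M (ClSub.idealMod I)) 0) : ℤ) := by
  haveI : Module.Finite k (Coh.HH X M 0) := H10Coh.finite_HH_proper k X M (H11Ample.isCoh_of_isInvertible hM) 0
  obtain ⟨w, hred⟩ := shortExact_red hM I
  let i : CohB1.tensorMod M (ClSub.idealMod I) ⟶ M := ((DCoh.tensorBi (X := X)).obj M).map (ClSub.idealModι I) ≫
    (H28Vert.tensorRightUnitIso (X := X)).hom.app M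
  haveI : Mono i := hred.mono_f
  have hinj : Function.Injective (Canon.HHlin k i 0) := (injective_iff_map_eq_zero _).2 fun a ha => by
    obtain ⟨σ, rfl⟩ := elem_surjective _ a
    rw [← elem_comp, elem_eq_zero_iff, ← zero_comp (f := i), cancel_mono] at ha
    rw [(elem_eq_zero_iff σ).2 ha]
  have hker : LinearMap.ker (evZ k el hel S I) = LinearMap.range (Canon.HHlin k i 0) := by
    ext a
    obtain ⟨σ, rfl⟩ := elem_surjective _ a
    rw [LinearMap.mem_ker, evZ_elem_eq_zero_iff el hel hM S I hS]
    constructor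
    · intro h
      obtain ⟨l, hl⟩ := KernelFork.IsLimit.lift' hred.fIsKernel σ h
      exact ⟨elem l, by rw [← elem_comp]; exact congrArg elem hl⟩
    · rintro ⟨b, hb⟩
      obtain ⟨τ, rfl⟩ := elem_surjective _ b
      rw [← elem_comp] at hb
      have hσ : τ ≫ i = σ :=
        (H24Hilb.homUnitEquiv M).injective ((H10Coh.HH0Equiv M).symm.injective hb)
      rw [← hσ, Category.assoc]
      exact (congrArg (τ ≫ ·) w).trans comp_zero
  have h := LinearMap.finrank_range_add_finrank_ker (evZ k el hel S I)
  rw [hker, LinearMap.finrank_range_of_inj hinj] at h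
  omega

/-- Functions on the finite subscheme are the sections of its structure sheaf. -/
theorem exists_equiv_sections (S : Finset X) (hcl : ∀ z ∈ S, IsClosed ({z} : Set X)) (I : X.IdealSheafData)
    (hS : (I.support : Set X) ⊆ S) :
    ∃ G : Coh.HH X (ClSub.quotMod I) 0 ≃ₗ[k] fun_ S I, ∀ (a : Coh.HH X (ClSub.quotMod I) 0) (z : S)
      (r : X.presheaf.stalk (z : X)),
      (ClSub.quotMod I).presheaf.germ ⊤ (z : X) trivial (H10Coh.HH0Equiv _ a) =
          stalkLin (ClSub.toSubscheme I) (z : X) (r • H28Surf.oneAt (z : X)) →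
        G a z = Ideal.Quotient.mk _ r := by
  haveI := H10Coh.epi_toSubscheme I
  have hT := H10Coh.Hyper.idealSeq_shortExact I
  let π : ∀ x : X, X.presheaf.stalk x →ₗ[X.presheaf.stalk x] (ClSub.quotMod I).presheaf.stalk x :=
    fun x => (stalkLin (ClSub.toSubscheme I) x).comp (LinearMap.toSpanSingleton _ _ (H28Surf.oneAt x))
  have hπs : ∀ x, Function.Surjective (π x) := fun x =>
    (H06Mod.stalk_surjective _ hT x).comp (H28Surf.oneAt_bijective x).2
  have hπk : ∀ x, LinearMap.ker (π x) = stI I x := fun x => Submodule.ext fun r => toSubscheme_stalk_eq_zero_iff I x r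
  let ε : ∀ x, (X.presheaf.stalk x ⧸ stI I x) ≃ₗ[X.presheaf.stalk x] (ClSub.quotMod I).presheaf.stalk x := fun x =>
    (Submodule.quotEquivOfEq _ _ (hπk x).symm).trans ((π x).quotKerEquivOfSurjective (hπs x))
  let G : Coh.HH X (ClSub.quotMod I) 0 →ₗ[k] fun_ S I :=
    { toFun := fun a z => (ε (z : X)).symm ((ClSub.quotMod I).presheaf.germ ⊤ (z : X) trivial (H10Coh.HH0Equiv _ a))
      map_add' := fun a b => funext fun z => by simp only [map_add, Pi.add_apply]
      map_smul' := fun c a => funext fun z => by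
        rw [germ_HH0_smul, map_smul, RingHom.id_apply, Pi.smul_apply]
        rfl }
  have hoff : ∀ y, y ∉ S → Subsingleton ((ClSub.quotMod I).presheaf.stalk y) := fun y hy =>
    subsingleton_of_forall_eq 0 fun v => by
      obtain ⟨r, rfl⟩ := hπs y v
      refine (LinearMap.mem_ker (f := π y)).1 ?_
      rw [hπk, stI_eq_top I fun h => hy (hS h)]
      trivial
  have hG : Function.Bijective G := by
    refine ⟨(injective_iff_map_eq_zero _).2 fun a ha => ?_, fun f => ?_⟩
    · apply (H10Coh.HH0Equiv _).injective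
      rw [map_zero]
      refine TopCat.Presheaf.section_ext (⟨(ClSub.quotMod I).presheaf, (ClSub.quotMod I).isSheaf⟩ :
        TopCat.Sheaf Ab.{u} X) ⊤ _ _ fun x hx => ?_
      refine Eq.trans ?_ (map_zero _).symm
      by_cases hxS : x ∈ S
      · exact (ε x).symm.injective ((congrFun ha ⟨x, hxS⟩).trans (map_zero _).symm)
      · exact (hoff x hxS).elim _ _
    · classical
      obtain ⟨t, ht⟩ := exists_section_germs (ClSub.quotMod I) S hcl hoff
        (fun x => if h : x ∈ S then ε x (f ⟨x, h⟩) else 0)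
      refine ⟨(H10Coh.HH0Equiv _).symm t, funext fun z => ?_⟩
      show (ε (z : X)).symm _ = f z
      rw [AddEquiv.apply_symm_apply, ht (z : X) z.2, dif_pos z.2, LinearEquiv.symm_apply_apply]
  refine ⟨LinearEquiv.ofBijective G hG, fun a z r h => ?_⟩
  show (ε (z : X)).symm _ = _
  rw [h, LinearEquiv.symm_apply_eq]
  rfl

/-- The length of a finite subscheme. -/
theorem finrank_fun (S : Finset X) (hcl : ∀ z ∈ S, IsClosed ({z} : Set X)) (I : X.IdealSheafData)
    (hS : (I.support : Set X) ⊆ S) :
    FiniteDimensional k (fun_ S I) ∧ (Module.finrank k (fun_ S I) : ℤ) = FGA.eulerCharLE k X (ClSub.quotMod I) 2 := by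
  haveI := H10Coh.Stab.isLocallyNoetherian_of_proper (Z := X) k
  obtain ⟨G, -⟩ := exists_equiv_sections (k := k) S hcl I hS
  haveI : Module.Finite k (Coh.HH X (ClSub.quotMod I) 0) :=
    H10Coh.finite_HH_proper k X _ (H25Par.isCoh_quotMod I) 0
  refine ⟨G.finiteDimensional, ?_⟩
  have hoff : ∀ y, y ∉ (S : Set X) → Subsingleton ((ClSub.quotMod I).presheaf.stalk y) := fun y hy =>
    subsingleton_of_forall_eq 0 fun v => by
      haveI := H10Coh.epi_toSubscheme I
      obtain ⟨u, rfl⟩ := H06Mod.stalk_surjective _ (H10Coh.Hyper.idealSeq_shortExact I) y v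
      obtain ⟨r, rfl⟩ := (H28Surf.oneAt_bijective y).2 u
      refine (toSubscheme_stalk_eq_zero_iff I y r).2 ?_
      rw [stI_eq_top I fun h => hy (hS h)]
      trivial
  have hv : ∀ i, 0 < i → Module.finrank k (Coh.HH X (ClSub.quotMod I) i) = 0 := fun i hi => by
    haveI := H25Par.subsingleton_HH_of_finite_support (ClSub.quotMod I) S.finite_toSet hcl hoff hi
    exact Module.finrank_zero_of_subsingleton
  rw [← G.finrank_eq, FGA.eulerCharLE, Finset.sum_range_succ, Finset.sum_range_succ, Finset.sum_range_succ,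
    Finset.sum_range_zero, hv 1 one_pos, hv 2 two_pos]
  simp

theorem zeroScheme_le_iff (hM : PicF.IsInvertible M) (σ : Coh.structureModule X ⟶ M) (J : X.IdealSheafData) :
    PicF2.zeroScheme M σ ≤ J ↔ ∀ x, coef el hel x (stalkLin σ x (H28Surf.oneAt x)) ∈ stI J x := by
  have key : ∀ x, stI (PicF2.zeroScheme M σ) x = Ideal.span {coef el hel x (stalkLin σ x (H28Surf.oneAt x))} := by
    intro x
    obtain ⟨V, hxV, e, c, he, hc, hI⟩ := H10Coh.RegSeq.exists_local hM σ x
    rw [stI_eq_map _ V hxV, hI, Ideal.map_span, Set.image_singleton]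
    have hs : stalkLin σ x (H28Surf.oneAt x) = X.presheaf.germ V.1 x hxV c • e :=
      (H10Coh.germ_app σ ⊤ x trivial _).trans hc
    rw [hs, map_smul, smul_eq_mul]
    refine (Ideal.span_singleton_mul_right_unit ?_ _).symm
    obtain ⟨r, hr⟩ := he.2 (el x)
    refine IsUnit.of_mul_eq_one r ?_
    have hr' : r • e = el x := hr
    rw [mul_comm, ← smul_eq_mul, ← map_smul, hr']
    simpa using coef_smul_el el hel x 1
  refine ⟨fun h x => stI_mono h x ((key x).ge (Ideal.mem_span_singleton_self _)), fun h => le_of_stI fun x => ?_⟩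
  rw [key, Ideal.span_singleton_le_iff_mem]
  exact h x

end Groth.Agent.H7CB
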