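import Groth.Agent.H7CB.Main

/-!
# Locally free extensions of ideals of points: the Ext criterion
-/

set_option autoImplicit false
set_option linter.style.haveILetI false
set_option linter.unusedSectionVars false
set_option backward.isDefEq.respectTransparency false
set_option maxHeartbeats 2000000
set_option synthInstance.maxHeartbeats 400000

universe u

open CategoryTheory CategoryTheory.Limits AlgebraicGeometry TopologicalSpace Opposite

noncomputable section

namespace Groth.Agent.H7CB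

variable {k : Type u} [Field k] [IsAlgClosed k] {X : Scheme.{u}} [X.Over (Spec (CommRingCat.of k))]
  [IsProper (X ↘ Spec (CommRingCat.of k))] [IsIntegral X]

/-- Precomposition on `Ext¹`, linear over the ground field. -/
def pre [HasExt.{u} X.Modules] {A B : X.Modules} (f : A ⟶ B) (M : X.Modules) :
    Abelian.Ext.{u} B M 1 →ₗ[k] Abelian.Ext.{u} A M 1 where
  toFun η := (Abelian.Ext.mk₀ f).comp η (zero_add 1)
  map_add' η η' := Abelian.Ext.comp_add _ _ _ _
  map_smul' c η := Abelian.Ext.comp_smul _ _ _ _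

include k in
theorem ext_main [HasExt.{u} X.Modules] (hX : topologicalKrullDim X = ((2 : ℕ) : WithBot ℕ∞))
    (hreg : ∀ x : X, IsRegularLocalRing (X.presheaf.stalk x)) (M : X.Modules) (hM : PicF.IsInvertible M)
    (Z : Finset X) (hZ : ∀ z ∈ Z, IsClosed ({z} : Set X)) :
    (∃ (F : X.Modules) (a : M ⟶ F) (b : F ⟶ ClSub.idealMod (pI Z hZ)) (w : a ≫ b = 0),
        (ShortComplex.mk a b w).ShortExact ∧ FlatMod.IsFinLocFree F) ↔
      ∀ (Z' : Finset X) (hZ'c : IsClosed ((Z' : Set X))), Z' ⊂ Z →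
        ∀ φ : ClSub.idealMod (pI Z hZ) ⟶
            ClSub.idealMod (Scheme.IdealSheafData.vanishingIdeal ⟨(Z' : Set X), hZ'c⟩),
          φ ≫ ClSub.idealModι (Scheme.IdealSheafData.vanishingIdeal ⟨(Z' : Set X), hZ'c⟩) =
              ClSub.idealModι (pI Z hZ) →
            ¬ Function.Surjective ((Abelian.Ext.mk₀ φ).precomp M (zero_add 1)) := by
  classical
  have hfin : ((pI Z hZ).support : Set X).Finite := by rw [support_pI]; exact Z.finite_toSet
  constructor
  · rintro ⟨F, a, b, w, hex, hF⟩ Z' hZ'c hss φ hφ hsurj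
    have hZ' : ∀ z ∈ Z', IsClosed ({z} : Set X) := fun z hz => hZ z (hss.subset hz)
    obtain ⟨η, hη⟩ := hsurj hex.extClass
    obtain ⟨G, aG, bG, wG, hG, rfl⟩ := H28Alg.exists_shortExact_extClass_eq η
    obtain ⟨g, hg1, hg2⟩ := H28Alg.exists_map_of_extClass_comp hex hG (𝟙 M) φ
      (by rw [Abelian.Ext.comp_mk₀_id]; exact hη.symm)
    have hlt : pI Z hZ < pI Z' hZ' := lt_of_le_of_ne (pI_le Z Z' hZ hZ' hss.subset) fun h => hss.ne (by
      rw [← Finset.coe_inj, ← support_pI Z' hZ', ← h, support_pI])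
    exact (H7AdjExt.main (k := k) hX hreg M hM (pI Z hZ) hfin F a b w hex).2
      ⟨pI Z' hZ', G, aG, bG, wG, φ, g, hlt, hG, hφ, hg1.trans (Category.id_comp _), hg2⟩ hF
  · intro h
    let Z' : {z // z ∈ Z} → Finset X := fun z => Z.erase z.1
    have hZ' : ∀ z, ∀ a ∈ Z' z, IsClosed ({a} : Set X) := fun z a ha => hZ a (Finset.mem_of_mem_erase ha)
    let φ := fun z => H22Alg.FatPoints.incl (pI_le Z (Z' z) hZ (hZ' z) (Finset.erase_subset z.1 Z))
    obtain ⟨ξ, hξ⟩ := Submodule.exists_forall_notMem_of_forall_ne_top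
      (fun z => LinearMap.range (pre (k := k) (φ z) M)) fun z hz =>
        h (Z' z) (pts (Z' z) (hZ' z)).isClosed (Finset.erase_ssubset z.2) (φ z) (H22Alg.FatPoints.incl_ι _)
          (LinearMap.range_eq_top.1 hz)
    obtain ⟨F, a, b, w, hex, rfl⟩ := H28Alg.exists_shortExact_extClass_eq ξ
    refine ⟨F, a, b, w, hex, ?_⟩
    by_contra hF
    obtain ⟨I', F', a', b', w', φ', g, hlt, hex', hφ', hg1, hg2⟩ :=
      (H7AdjExt.main (k := k) hX hreg M hM (pI Z hZ) hfin F a b w hex).1 hF
    obtain ⟨z, hz, hle⟩ := exists_pI_le Z hZ hlt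
    have hκ : φ ⟨z, hz⟩ ≫ H22Alg.FatPoints.incl hle = φ' := by
      haveI : Mono (ClSub.idealModι I') := inferInstanceAs (Mono (kernel.ι _))
      rw [← cancel_mono (ClSub.idealModι I'), Category.assoc, H22Alg.FatPoints.incl_ι, hφ']
      exact H22Alg.FatPoints.incl_ι _
    have hcl := S12058.extClass_naturality' hex hex' (𝟙 M) g φ'
      (hg1.trans (Category.id_comp _).symm) hg2
    rw [Abelian.Ext.comp_mk₀_id, ← hκ, ← Abelian.Ext.mk₀_comp_mk₀,
      Abelian.Ext.comp_assoc_of_second_deg_zero] at hcl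
    exact hξ ⟨z, hz⟩ ⟨_, hcl.symm⟩

end Groth.Agent.H7CB
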