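import Mathlib.LinearAlgebra.Dual.Lemmas
import Mathlib.LinearAlgebra.FiniteDimensional.Lemmas
import Mathlib.Algebra.Module.Submodule.Union
import Mathlib.LinearAlgebra.Quotient.Basic

/-!
# The inequality coming from a nondegenerate functional on a finite algebra
-/

set_option autoImplicit false

open Module

namespace Groth.Agent.H7CB

/-- If `δ` meets every nonzero principal ideal and avoids `A'`, and `A·B ⊆ A'`, then
`dim A + dim B ≤ dim R`. -/
theorem finrank_add_finrank_le {k R ι : Type*} [Field k] [Infinite k] [CommRing R] [Algebra k R]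
    [FiniteDimensional k R] [Finite ι] (A' A B : Submodule k R) (δ : ι → R) (hδ : ∀ i, δ i ∉ A')
    (hmeet : ∀ a : R, a ≠ 0 → ∃ (r : R) (i : ι), r * a = δ i)
    (hmul : ∀ a ∈ A, ∀ b ∈ B, a * b ∈ A') :
    finrank k A + finrank k B ≤ finrank k R := by
  obtain ⟨ψ, hψ⟩ := Submodule.exists_forall_notMem_of_forall_ne_top
    (fun i => LinearMap.ker (Dual.eval k (R ⧸ A') (Submodule.Quotient.mk (δ i)))) fun i hi => hδ i (by
      refine (Submodule.Quotient.mk_eq_zero A').1 ((forall_dual_apply_eq_zero_iff k _).1 fun f => ?_)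
      have : f ∈ LinearMap.ker (Dual.eval k (R ⧸ A') (Submodule.Quotient.mk (δ i))) := by rw [hi]; trivial
      exact this)
  let l : R →ₗ[k] k := ψ ∘ₗ A'.mkQ
  let Φ : R →ₗ[k] Dual k R := (LinearMap.mul k R).compr₂ l
  have hΦ : Function.Injective Φ := (injective_iff_map_eq_zero Φ).2 fun a ha => by
    by_contra hne
    obtain ⟨r, i, hri⟩ := hmeet a hne
    refine hψ i ?_
    show ψ (A'.mkQ (δ i)) = 0
    rw [← hri, mul_comm]
    exact LinearMap.congr_fun ha r
  have hle : B.map Φ ≤ A.dualAnnihilator := by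
    rintro _ ⟨b, hb, rfl⟩
    refine (Submodule.mem_dualAnnihilator _).2 fun a ha => ?_
    show ψ (A'.mkQ (b * a)) = 0
    rw [mul_comm, (Submodule.Quotient.mk_eq_zero A').2 (hmul a ha b hb) |> fun h => (show A'.mkQ (a * b) = 0 from h),
      map_zero]
  have h1 := Submodule.finrank_mono hle
  rw [show finrank k (B.map Φ) = finrank k B from (Submodule.equivMapOfInjective Φ hΦ B).finrank_eq.symm] at h1
  have h2 := Subspace.finrank_add_finrank_dualAnnihilator_eq A
  omega

end Groth.Agent.H7CB
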