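import Groth.Agent.H7CB.Eval
import Groth.Agent.H7CB.Frob
import Groth.Agent.H10Coh.Stab.TwistInt
import Groth.Agent.H17.FLI.SmoothDual

/-!
# The Cayley-Bacharach inequality for a locally complete intersection finite subscheme
-/

set_option autoImplicit false
set_option linter.style.haveILetI false
set_option linter.unusedSectionVars false
set_option backward.isDefEq.respectTransparency false
set_option maxHeartbeats 1600000
set_option synthInstance.maxHeartbeats 400000

universe u

open CategoryTheory CategoryTheory.Limits AlgebraicGeometry TopologicalSpace Opposite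
open scoped TensorProduct

noncomputable section

namespace Groth.Agent.H7CB

open Groth.Agent.H06Mod

variable {X : Scheme.{u}}

/-- Enlarging an ideal by a socle element at one point gives a covering ideal. -/
theorem exists_cover [IsLocallyNoetherian X] (S : Finset X) (hcl : ∀ z ∈ S, IsClosed ({z} : Set X))
    (I : X.IdealSheafData) (hS : (I.support : Set X) ⊆ S) {z : X} (hz : z ∈ S) (d : X.presheaf.stalk z)
    (hd : d ∉ stI I z) (hmin : ∀ J : Ideal (X.presheaf.stalk z), stI I z < J → d ∈ J) :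
    ∃ I' : X.IdealSheafData, I ⋖ I' ∧ d ∈ stI I' z ∧ (∀ x, x ≠ z → stI I' x = stI I x) ∧
      ∀ r ∈ stI I' z, ∃ s, r - s * d ∈ stI I z := by
  classical
  let Q := ClSub.quotMod I
  let q := ClSub.toSubscheme I
  haveI := H10Coh.epi_toSubscheme I
  have hT := H10Coh.Hyper.idealSeq_shortExact I
  let π : ∀ x : X, X.presheaf.stalk x → Q.presheaf.stalk x := fun x r => stalkLin q x (r • H28Surf.oneAt x)
  have hπ : ∀ x r, π x r = r • π x 1 := fun x r => by
    show stalkLin q x (r • H28Surf.oneAt x) = r • stalkLin q x ((1 : X.presheaf.stalk x) • H28Surf.oneAt x)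
    rw [one_smul]
    exact map_smul _ r _
  have hoff : ∀ y, y ∉ S → Subsingleton (Q.presheaf.stalk y) := fun y hy => subsingleton_of_forall_eq 0 fun v => by
    obtain ⟨u, rfl⟩ := H06Mod.stalk_surjective _ hT y v
    obtain ⟨r, rfl⟩ := (H28Surf.oneAt_bijective y).2 u
    refine (toSubscheme_stalk_eq_zero_iff I y r).2 ?_
    rw [stI_eq_top I fun h => hy (hS h)]
    trivial
  let v : ∀ x : X, Q.presheaf.stalk x := fun x => if h : x = z then π x (h ▸ d) else 0
  obtain ⟨t, ht⟩ := exists_section_germs Q S hcl hoff v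
  let φ : Coh.structureModule X ⟶ Q := (H24Hilb.homUnitEquiv Q).symm t
  have hφ : ∀ x, stalkLin φ x (H28Surf.oneAt x) = v x := fun x => by
    rw [← germ_HH0_elem φ x, show H10Coh.HH0Equiv Q (elem φ) = t from by
      rw [elem, AddEquiv.apply_symm_apply, AddEquiv.apply_symm_apply]]
    by_cases hx : x ∈ S
    · exact ht x hx
    · exact (hoff x hx).elim _ _
  let ψ : Coh.structureModule X ⟶ cokernel φ := q ≫ cokernel.π φ
  haveI : Epi ψ := epi_comp _ _
  have hO : Coh.IsCoh (Coh.structureModule X) := H10Coh.isCoh_structureModule' X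
  have hK : Coh.IsCoh (kernel ψ) :=
    H10Coh.isCoh_kernel ψ hO (H10Coh.isCoh_cokernel φ hO.1 (H25Par.isCoh_quotMod I)).1
  obtain ⟨I', e, he⟩ := H7AdjExt.exists_idealMod_iso (kernel.ι ψ) hK.1
  have hSψ : (ShortComplex.mk (kernel.ι ψ) ψ (kernel.condition ψ)).ShortExact :=
    { exact := ShortComplex.exact_of_f_is_kernel _ (kernelIsKernel ψ) }
  have hSφ : (ShortComplex.mk φ (cokernel.π φ) (cokernel.condition φ)).Exact := ShortComplex.exact_cokernel φ
  have mem : ∀ x (r : X.presheaf.stalk x), r ∈ stI I' x ↔ ∃ s : X.presheaf.stalk x, π x r = s • v x := by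
    intro x r
    rw [← smul_mem_range_iff]
    have h1 : r • H28Surf.oneAt x ∈ LinearMap.range (stalkLin (ClSub.idealModι I') x) ↔
        stalkLin ψ x (r • H28Surf.oneAt x) = 0 := by
      refine Iff.trans ?_ (H06Mod.stalk_exact _ hSψ x _).symm
      constructor
      · rintro ⟨a, ha⟩
        refine ⟨stalkLin e.inv x a, ?_⟩
        exact ((H29Omega.stalkLin_comp _ _ x a).symm.trans (congrArg (fun f => stalkLin f x a)
          (show e.inv ≫ kernel.ι ψ = ClSub.idealModι I' by rw [← he, Iso.inv_hom_id_assoc]))).trans ha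
      · rintro ⟨a, ha⟩
        refine ⟨stalkLin e.hom x a, ?_⟩
        rw [← H29Omega.stalkLin_comp, he]
        exact ha
    rw [h1, H29Omega.stalkLin_comp]
    constructor
    · intro h
      obtain ⟨a, ha⟩ := (ShortComplex.moduleCat_exact_iff _).1 (hSφ.map (DerSch.stalkFunctor X x)) _ h
      obtain ⟨s, rfl⟩ := (H28Surf.oneAt_bijective x).2 a
      refine ⟨s, ha.symm.trans ?_⟩
      show stalkLin φ x (s • H28Surf.oneAt x) = _
      rw [map_smul, hφ]
    · rintro ⟨s, hs⟩
      rw [show stalkLin q x (r • H28Surf.oneAt x) = s • v x from hs, ← hφ, map_smul,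
        ← H29Omega.stalkLin_comp, cokernel.condition, H17.KoszTwist.stalkLin_zero, smul_zero]
  have hIz : ∀ x, stI I x ≤ stI I' x := fun x r hr => (mem x r).2 ⟨0, by
    rw [zero_smul]
    exact (toSubscheme_stalk_eq_zero_iff I x r).2 hr⟩
  have hdI' : d ∈ stI I' z := (mem z d).2 ⟨1, by rw [one_smul]; simp [v]⟩
  have hne : ∀ x, x ≠ z → stI I' x = stI I x := fun x hx => by
    refine le_antisymm (fun r hr => ?_) (hIz x)
    obtain ⟨s, hs⟩ := (mem x r).1 hr
    refine (toSubscheme_stalk_eq_zero_iff I x r).1 ?_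
    exact hs.trans (by rw [show v x = 0 from dif_neg hx, smul_zero])
  have hsub : ∀ r ∈ stI I' z, ∃ s, r - s * d ∈ stI I z := fun r hr => by
    obtain ⟨s, hs⟩ := (mem z r).1 hr
    refine ⟨s, (toSubscheme_stalk_eq_zero_iff I z _).1 ?_⟩
    show π z (r - s * d) = 0
    rw [show v z = π z d by simp [v]] at hs
    rw [hπ, sub_smul, mul_smul, ← hπ, ← hπ z d, hs, sub_self]
  refine ⟨I', ⟨lt_of_le_of_ne (le_of_stI hIz) fun h => hd (h ▸ hdI'), fun J hIJ hJI' => ?_⟩, hdI', hne, hsub⟩
  refine hJI'.not_ge (le_of_stI fun x => ?_)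
  by_cases hx : x = z
  · subst hx
    have hlt : stI I x < stI J x := lt_of_le_of_ne (stI_mono hIJ.le x) fun h => hIJ.not_ge (le_of_stI fun y => by
      by_cases hy : y = x
      · subst hy
        exact h.ge
      · exact (stI_mono hJI'.le y).trans (hne y hy).le)
    intro r hr
    obtain ⟨s, hr'⟩ := hsub r hr
    rw [← sub_add_cancel r (s * d)]
    exact add_mem (stI_mono hIJ.le x hr') (Ideal.mul_mem_left _ _ (hmin _ hlt))
  · exact (hne x hx).trans_le (stI_mono hIJ.le x)

section ineq

attribute [local instance 10000] H10Coh.hasSheafifyAb H10Coh.hasWeakSheafifyAb H10Coh.hasExtAb H10Coh.enoughInjAb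

variable {k : Type u} [Field k] [X.Over (Spec (CommRingCat.of k))]

attribute [local instance] stalkAlgebra

theorem exists_el {M : X.Modules} (hM : PicF.IsInvertible M) :
    ∃ el : ∀ x : X, M.presheaf.stalk x, ∀ x, Function.Bijective fun r : X.presheaf.stalk x => r • el x := by
  choose V hxV el c hel hc hI using fun x => H10Coh.RegSeq.exists_local hM (0 : Coh.structureModule X ⟶ M) x
  exact ⟨el, hel⟩

theorem bijective_mul_el {A B C : X.Modules} (μ : CohB1.tensorMod A B ≅ C) (x : X)
    {a : A.presheaf.stalk x} (ha : Function.Bijective fun r : X.presheaf.stalk x => r • a)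
    {b : B.presheaf.stalk x} (hb : Function.Bijective fun r : X.presheaf.stalk x => r • b) :
    Function.Bijective fun r : X.presheaf.stalk x =>
      r • stalkLin μ.hom x (H16Derived.KFlat.Stalk.toStalk A B x (a ⊗ₜ b)) := by
  let eA := LinearEquiv.ofBijective (LinearMap.toSpanSingleton (X.presheaf.stalk x) _ a) ha
  let eB := LinearEquiv.ofBijective (LinearMap.toSpanSingleton (X.presheaf.stalk x) _ b) hb
  let e : X.presheaf.stalk x ≃ₗ[X.presheaf.stalk x] C.presheaf.stalk x :=
    ((TensorProduct.lid _ _).symm.trans (TensorProduct.congr eA eB)).trans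
      ((H16Derived.KFlat.Stalk.stalkEquiv A B x).trans
        (LinearEquiv.ofBijective (stalkLin μ.hom x)
          (ConcreteCategory.bijective_of_isIso ((DerSch.stalkFunctor X x).map μ.hom))))
  convert e.bijective using 1
  funext r
  show _ = stalkLin μ.hom x (H16Derived.KFlat.Stalk.toStalk A B x (eA 1 ⊗ₜ eB r))
  rw [show eA 1 = a from one_smul (X.presheaf.stalk x) a, show eB r = r • b from rfl, TensorProduct.tmul_smul, map_smul, map_smul]

theorem germ_tm' {A B : X.Modules} (s : Γ(A, ⊤)) (t : Γ(B, ⊤)) (x : X) :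
    (CohB1.tensorMod A B).presheaf.germ ⊤ x trivial (H11Ample.tm s t) =
      H16Derived.KFlat.Stalk.toStalk A B x
        (A.presheaf.germ ⊤ x trivial s ⊗ₜ B.presheaf.germ ⊤ x trivial t) := by
  rw [H16Derived.KFlat.Stalk.toStalk_tmul, H16Derived.KFlat.Stalk.pair_germ]
  rfl

variable [IsProper (X ↘ Spec (CommRingCat.of k))]

include k in
/-- Evaluations in complementary degrees of a subscheme with the Cayley–Bacharach property. -/
theorem cb_ineq [Infinite k] (S : Finset X) (hcl : ∀ z ∈ S, IsClosed ({z} : Set X)) (I : X.IdealSheafData)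
    (hS : (I.support : Set X) ⊆ S)
    (hsoc : ∀ z : S, ∃ d : X.presheaf.stalk (z : X), d ∉ stI I (z : X) ∧
      ∀ J : Ideal (X.presheaf.stalk (z : X)), stI I (z : X) < J → d ∈ J)
    (A B C : X.Modules) (hA : PicF.IsInvertible A) (hB : PicF.IsInvertible B) (hC : PicF.IsInvertible C)
    (μ : CohB1.tensorMod A B ≅ C)
    (hCB : ∀ I' : X.IdealSheafData, I ⋖ I' → ∀ σ : Coh.structureModule X ⟶ C,
      PicF2.zeroScheme C σ ≤ I' → PicF2.zeroScheme C σ ≤ I) :
    ((Module.finrank k (Coh.HH X A 0) : ℤ) -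
        (Module.finrank k (Coh.HH X (CohB1.tensorMod A (ClSub.idealMod I)) 0) : ℤ)) +
      ((Module.finrank k (Coh.HH X B 0) : ℤ) -
        (Module.finrank k (Coh.HH X (CohB1.tensorMod B (ClSub.idealMod I)) 0) : ℤ)) ≤
      FGA.eulerCharLE k X (ClSub.quotMod I) 2 := by
  classical
  haveI := H10Coh.Stab.isLocallyNoetherian_of_proper (Z := X) k
  obtain ⟨hfd, hdim⟩ := finrank_fun (k := k) S hcl I hS
  haveI := hfd
  obtain ⟨elA, helA⟩ := exists_el hA
  obtain ⟨elB, helB⟩ := exists_el hB
  let elC : ∀ x, C.presheaf.stalk x := fun x =>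
    stalkLin μ.hom x (H16Derived.KFlat.Stalk.toStalk A B x (elA x ⊗ₜ elB x))
  have helC : ∀ x, Function.Bijective fun r : X.presheaf.stalk x => r • elC x := fun x =>
    bijective_mul_el μ x (helA x) (helB x)
  choose d hd hmin using hsoc
  let δ : S → fun_ S I := fun z => Pi.single z (Ideal.Quotient.mk _ (d z))
  have h := finrank_add_finrank_le (LinearMap.range (evZ k elC helC S I)) (LinearMap.range (evZ k elA helA S I))
    (LinearMap.range (evZ k elB helB S I)) δ ?_ ?_ ?_
  · rw [← finrank_range_evZ elA helA hA S I hS, ← finrank_range_evZ elB helB hB S I hS, ← hdim]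
    exact_mod_cast h
  · rintro z ⟨a, ha⟩
    obtain ⟨σ, rfl⟩ := elem_surjective _ a
    obtain ⟨I', hcov, hdI, hne, -⟩ := exists_cover S hcl I hS z.2 (d z) (hd z) (hmin z)
    have hc : ∀ w : S, Ideal.Quotient.mk (stI I (w : X)) (coef elC helC (w : X) (stalkLin σ (w : X)
        (H28Surf.oneAt (w : X)))) = δ z w := fun w => by
      rw [← germ_HH0_elem σ (w : X)]
      exact congrFun ha w
    have hle := (zeroScheme_le_iff elC helC hC σ I).1 (hCB I' hcov σ ((zeroScheme_le_iff elC helC hC σ I').2 fun x => by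
      by_cases hxS : x ∈ S
      · have h1 := hc ⟨x, hxS⟩
        by_cases hxz : (⟨x, hxS⟩ : S) = z
        · subst hxz
          simp only [δ, Pi.single_eq_same] at h1
          have h2 := stI_mono hcov.lt.le x (Ideal.Quotient.eq.1 h1)
          simpa using add_mem h2 hdI
        · simp only [δ, Pi.single_eq_of_ne hxz] at h1
          rw [hne x fun e => hxz (Subtype.ext e)]
          exact Ideal.Quotient.eq_zero_iff_mem.1 h1
      · rw [hne x fun e => hxS (e ▸ z.2), stI_eq_top I fun e => hxS (hS e)]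
        trivial))
    have h1 := hc z
    rw [Ideal.Quotient.eq_zero_iff_mem.2 (hle (z : X))] at h1
    simp only [δ, Pi.single_eq_same] at h1
    exact hd z (Ideal.Quotient.eq_zero_iff_mem.1 h1.symm)
  · intro a ha
    obtain ⟨z, hz⟩ := Function.ne_iff.1 ha
    obtain ⟨r₀, hr₀⟩ := Ideal.Quotient.mk_surjective (a z)
    have hlt : stI I (z : X) < stI I (z : X) ⊔ Ideal.span {r₀} :=
      lt_of_le_of_ne le_sup_left fun e => hz (by
        rw [← hr₀]
        exact Ideal.Quotient.eq_zero_iff_mem.2 (e.symm ▸ Submodule.mem_sup_right (Ideal.mem_span_singleton_self r₀)))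
    obtain ⟨i, hi, w, hw, hiw⟩ := Submodule.mem_sup.1 (hmin z _ hlt)
    obtain ⟨t, rfl⟩ := Ideal.mem_span_singleton'.1 hw
    refine ⟨Pi.single z (Ideal.Quotient.mk _ t), z, funext fun w => ?_⟩
    by_cases hw : w = z
    · subst hw
      simp only [δ, Pi.mul_apply, Pi.single_eq_same, ← hr₀, ← map_mul]
      refine (Ideal.Quotient.eq).2 ?_
      rw [← hiw]
      simpa using neg_mem hi
    · simp only [δ, Pi.mul_apply, Pi.single_eq_of_ne hw, zero_mul]
  · rintro _ ⟨a, rfl⟩ _ ⟨b, rfl⟩
    refine ⟨(H10Coh.HH0Equiv C).symm (μ.hom.app ⊤ (H11Ample.tm (H10Coh.HH0Equiv A a) (H10Coh.HH0Equiv B b))),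
      funext fun z => ?_⟩
    show Ideal.Quotient.mk (stI I (z : X)) _ = Ideal.Quotient.mk (stI I (z : X)) _ * Ideal.Quotient.mk (stI I (z : X)) _
    rw [← map_mul, AddEquiv.apply_symm_apply, ← stalkLin_germ, germ_tm']
    set p := coef elA helA (z : X) (A.presheaf.germ ⊤ (z : X) trivial (H10Coh.HH0Equiv A a)) with hp
    set p' := coef elB helB (z : X) (B.presheaf.germ ⊤ (z : X) trivial (H10Coh.HH0Equiv B b)) with hp'
    rw [show A.presheaf.germ ⊤ (z : X) trivial (H10Coh.HH0Equiv A a) = p • elA z from (smul_coef elA helA _ _).symm,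
      show B.presheaf.germ ⊤ (z : X) trivial (H10Coh.HH0Equiv B b) = p' • elB z from (smul_coef elB helB _ _).symm,
      TensorProduct.tmul_smul, ← TensorProduct.smul_tmul', smul_smul, map_smul, map_smul,
      coef_smul_el]
    rw [mul_comm]

end ineq

end Groth.Agent.H7CB
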