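import Groth.Agent.H7AdjExt.Main
import Groth.Agent.H10Coh.RegSeq.Cut
import Groth.Agent.H10Coh.K3Surf.Residue
import Groth.Agent.H17.Seshadri.Jets

/-!
# Vanishing of sections of an invertible module at reduced finite sets of points
-/

set_option autoImplicit false
set_option linter.style.haveILetI false
set_option linter.unusedSectionVars false
set_option backward.isDefEq.respectTransparency false
set_option maxHeartbeats 800000
set_option synthInstance.maxHeartbeats 200000

universe u

open CategoryTheory CategoryTheory.Limits AlgebraicGeometry TopologicalSpace Opposite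
open scoped TensorProduct

noncomputable section

namespace Groth.Agent.H7CB

open Groth.Agent.H06Mod

variable {X : Scheme.{u}}

/-- A finite set of closed points as a closed set. -/
def pts (A : Finset X) (hA : ∀ a ∈ A, IsClosed ({a} : Set X)) : Closeds X :=
  ⟨(A : Set X), by
    rw [← Set.biUnion_of_singleton (A : Set X)]
    exact A.finite_toSet.isClosed_biUnion fun a ha => hA a ha⟩

/-- The ideal of a finite set of closed points. -/
abbrev pI (A : Finset X) (hA : ∀ a ∈ A, IsClosed ({a} : Set X)) : X.IdealSheafData :=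
  Scheme.IdealSheafData.vanishingIdeal (pts A hA)

theorem support_pI (A : Finset X) (hA : ∀ a ∈ A, IsClosed ({a} : Set X)) :
    ((pI A hA).support : Set X) = A := by
  simp [pts]

theorem map_germ_pI (A : Finset X) (hA : ∀ a ∈ A, IsClosed ({a} : Set X)) {z : X} (hz : z ∈ A) :
    ∃ (V : X.affineOpens) (hzV : z ∈ V.1),
      ((pI A hA).ideal V).map (X.presheaf.germ V.1 z hzV).hom = IsLocalRing.maximalIdeal (X.presheaf.stalk z) := by
  classical
  let U : X.Opens := ⟨(((A.erase z : Finset X) : Set X))ᶜ, by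
    rw [isOpen_compl_iff, ← Set.biUnion_of_singleton ((A.erase z : Finset X) : Set X)]
    exact (A.erase z).finite_toSet.isClosed_biUnion fun a ha => hA a (Finset.mem_of_mem_erase ha)⟩
  obtain ⟨W, hW, hzW, hWU⟩ := exists_isAffineOpen_mem_and_subset (U := U) (x := z) (show z ∈ ((A.erase z : Finset X) : Set X)ᶜ by simp)
  refine ⟨⟨W, hW⟩, hzW, ?_⟩
  have hset : hW.fromSpec ⁻¹' (A : Set X) = {hW.primeIdealOf ⟨z, hzW⟩} := by
    ext p
    constructor
    · intro hp
      refine hW.fromSpec.isOpenEmbedding.injective ?_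
      rw [hW.fromSpec_primeIdealOf ⟨z, hzW⟩]
      by_contra hne
      exact hWU (hW.range_fromSpec.le ⟨p, rfl⟩) (Finset.mem_coe.2 (Finset.mem_erase.2 ⟨hne, hp⟩))
    · rintro rfl
      show hW.fromSpec (hW.primeIdealOf ⟨z, hzW⟩) ∈ (A : Set X)
      rw [hW.fromSpec_primeIdealOf ⟨z, hzW⟩]
      exact hz
  rw [show (pI A hA).ideal ⟨W, hW⟩ = (hW.primeIdealOf ⟨z, hzW⟩).asIdeal by
    rw [pI, Scheme.IdealSheafData.vanishingIdeal_ideal]
    show PrimeSpectrum.vanishingIdeal (hW.fromSpec ⁻¹' (A : Set X)) = _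
    erw [hset]
    exact PrimeSpectrum.vanishingIdeal_singleton _]
  letI : Algebra Γ(X, W) (X.presheaf.stalk z) := (X.presheaf.germ W z hzW).hom.toAlgebra
  haveI : IsLocalization.AtPrime (X.presheaf.stalk z) (hW.primeIdealOf ⟨z, hzW⟩).asIdeal :=
    hW.isLocalization_stalk ⟨z, hzW⟩
  exact IsLocalization.AtPrime.map_eq_maximalIdeal _ _

theorem stalkLin_idealModι (I : X.IdealSheafData) (x : X) (a : (ClSub.idealMod I).presheaf.stalk x) :
    stalkLin (ClSub.idealModι I) x a = H29Omega.idealStalk I x a • H28Surf.oneAt x := by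
  obtain ⟨U, h, m, rfl⟩ := (ClSub.idealMod I).presheaf.exists_germ_eq a
  rw [stalkLin_germ]
  refine (H28Surf.germ_eq_smul_oneAt h _).trans ?_
  exact congrArg (fun r => r • H28Surf.oneAt x) (H29Omega.idealStalk_germ I x U h m).symm

/-- The germs of the functions vanishing on `A`. -/
theorem mem_range_iff (A : Finset X) (hA : ∀ a ∈ A, IsClosed ({a} : Set X)) {z : X} (hz : z ∈ A)
    (r : X.presheaf.stalk z) :
    r • H28Surf.oneAt z ∈ LinearMap.range (stalkLin (ClSub.idealModι (pI A hA)) z) ↔
      r ∈ IsLocalRing.maximalIdeal (X.presheaf.stalk z) := by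
  obtain ⟨V, hzV, hV⟩ := map_germ_pI A hA hz
  rw [← hV, ← H29Omega.range_idealStalk (pI A hA) z V hzV]
  refine ⟨fun ⟨a, ha⟩ => ⟨a, (H28Surf.oneAt_bijective z).1 ((stalkLin_idealModι _ z a).symm.trans ha)⟩, ?_⟩
  rintro ⟨a, rfl⟩
  exact ⟨a, stalkLin_idealModι _ z a⟩

/-- An invertible module acts on stalks as a free module of rank one. -/
theorem nonempty_stalk_tensor {N : X.Modules} {x : X} {el : N.presheaf.stalk x}
    (hel : Function.Bijective fun r : X.presheaf.stalk x => r • el) (M : X.Modules) :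
    Nonempty ((((DCoh.tensorBi (X := X)).obj N).obj M).presheaf.stalk x ≃ₗ[X.presheaf.stalk x]
      M.presheaf.stalk x) :=
  ⟨(H16Derived.KFlat.Stalk.stalkEquiv N M x).symm.trans
    ((TensorProduct.congr (LinearEquiv.ofBijective (LinearMap.toSpanSingleton _ _ el) hel).symm
      (LinearEquiv.refl _ _)).trans (TensorProduct.lid _ _))⟩

/-- The reduction of a section of `N` on `A`. -/
def red (N : X.Modules) (I : X.IdealSheafData) :
    N ⟶ ((DCoh.tensorBi (X := X)).obj N).obj (ClSub.quotMod I) :=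
  (H28Vert.tensorRightUnitIso (X := X)).inv.app N ≫ ((DCoh.tensorBi (X := X)).obj N).map (ClSub.toSubscheme I)

theorem shortExact_red {N : X.Modules} (hN : PicF.IsInvertible N) (I : X.IdealSheafData) :
    ∃ w, (ShortComplex.mk (((DCoh.tensorBi (X := X)).obj N).map (ClSub.idealModι I) ≫
      (H28Vert.tensorRightUnitIso (X := X)).hom.app N) (red N I) w).ShortExact := by
  obtain ⟨N', -, ⟨e⟩⟩ := H11Sym.exists_inverse hN
  let T := (DCoh.tensorBi (X := X)).obj N
  haveI : T.IsEquivalence := H15Site.Invertible.isEquivalence_of_iso_unit (O := X.sheaf) (L := N) (N := N')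
    (H11Ample.tensorCommIso N N' ≪≫ e)
  haveI : T.Additive := Functor.additive_of_preserves_binary_products _
  haveI := H10Coh.epi_toSubscheme I
  have h := (H10Coh.Hyper.idealSeq_shortExact I).map_of_exact T
  have w : (T.map (ClSub.idealModι I) ≫ (H28Vert.tensorRightUnitIso (X := X)).hom.app N) ≫ red N I = 0 := by
    rw [red, Category.assoc, Iso.hom_inv_id_app_assoc, ← Functor.map_comp,
      show ClSub.idealModι I ≫ ClSub.toSubscheme I = 0 from kernel.condition _, Functor.map_zero]
  refine ⟨w, ShortComplex.shortExact_of_iso (S₁ := (H10Coh.Hyper.idealSeq I).map T) (ShortComplex.isoMk (Iso.refl _)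
    ((H28Vert.tensorRightUnitIso (X := X)).app N) (Iso.refl _) ?_ ?_) h⟩
  · exact Category.id_comp _
  · dsimp [red]
    rw [Iso.hom_inv_id_app_assoc, Category.comp_id]
    rfl

variable {L : X.Modules} (hL : PicF.IsInvertible L)

include hL in
/-- A section dies on `A` exactly when its zero scheme contains `A`. -/
theorem comp_red_eq_zero_iff (A : Finset X) (hA : ∀ a ∈ A, IsClosed ({a} : Set X))
    (σ : Coh.structureModule X ⟶ L) :
    σ ≫ red L (pI A hA) = 0 ↔ ∀ z ∈ A, z ∈ (PicF2.zeroScheme L σ).support := by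
  let I := pI A hA
  let q := ClSub.toSubscheme I
  let T := (DCoh.tensorBi (X := X)).obj L
  haveI := H10Coh.epi_toSubscheme I
  have hS := H10Coh.Hyper.idealSeq_shortExact I
  obtain ⟨w, hred⟩ := shortExact_red hL I
  have key : ∀ z ∈ A, (z ∈ (PicF2.zeroScheme L σ).support ↔
      stalkLin (σ ≫ red L I) z (H28Surf.oneAt z) = 0) := by
    intro z hz
    obtain ⟨V, hzV, el, c, hel, hc, hI⟩ := H10Coh.RegSeq.exists_local hL σ z
    let g := X.presheaf.germ V.1 z hzV c
    have hsupp : z ∈ (PicF2.zeroScheme L σ).support ↔ g ∈ IsLocalRing.maximalIdeal (X.presheaf.stalk z) := by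
      rw [Scheme.IdealSheafData.mem_support_iff_of_mem hzV, hI, Scheme.zeroLocus_span,
        Scheme.zeroLocus_singleton, Set.mem_compl_iff, SetLike.mem_coe,
        Scheme.mem_basicOpen X c z hzV, IsLocalRing.mem_maximalIdeal, mem_nonunits_iff]
    have hsec : stalkLin σ z (H28Surf.oneAt z) = g • el :=
      (H10Coh.germ_app σ ⊤ z trivial _).trans hc
    rw [hsupp, H29Omega.stalkLin_comp, hsec, map_smul]
    obtain ⟨e⟩ := nonempty_stalk_tensor hel (ClSub.quotMod I)
    -- the class of the generator generates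
    have hgen : ∀ v, ∃ r : X.presheaf.stalk z, v = r • stalkLin (red L I) z el := fun v => by
      obtain ⟨u, rfl⟩ := H06Mod.stalk_surjective _ hred z v
      obtain ⟨r, rfl⟩ := hel.2 u
      exact ⟨r, map_smul _ _ _⟩
    have hex := H06Mod.stalk_exact _ hS z
    constructor
    · intro hg
      rw [← mem_range_iff A hA hz] at hg
      apply e.injective
      rw [map_smul, map_zero]
      obtain ⟨u, hu⟩ := H06Mod.stalk_surjective _ hS z (e (stalkLin (red L I) z el))
      obtain ⟨r, rfl⟩ := (H28Surf.oneAt_bijective z).2 u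
      rw [← hu, map_smul, smul_comm]
      have h0 : g • stalkLin q z (H28Surf.oneAt z) = 0 := by
        rw [← map_smul]
        exact (hex _).2 hg
      exact (congrArg (r • ·) h0).trans (smul_zero r)
    · intro hg
      rw [← mem_range_iff A hA hz]
      refine (hex _).1 ?_
      obtain ⟨r, hr⟩ := hgen (e.symm (stalkLin q z (H28Surf.oneAt z)))
      show stalkLin q z (g • H28Surf.oneAt z) = 0
      rw [map_smul]
      apply e.symm.injective
      rw [map_smul, map_zero, hr, smul_comm, hg, smul_zero]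
  constructor
  · intro h z hz
    rw [key z hz, h]
    exact H17.KoszTwist.stalkLin_zero _ _
  · intro h
    refine H29Omega.eq_zero_of_stalkLin _ fun x a => ?_
    obtain ⟨r, rfl⟩ := (H28Surf.oneAt_bijective x).2 a
    rw [map_smul]
    by_cases hx : x ∈ A
    · rw [(key x hx).1 (h x hx), smul_zero]
    · obtain ⟨V, hxV, el, c, hel, hc, hI⟩ := H10Coh.RegSeq.exists_local hL σ x
      obtain ⟨e⟩ := nonempty_stalk_tensor hel (ClSub.quotMod I)
      haveI := H25Euler.isIso_stalk_idealModι I (x := x) (by rw [support_pI]; exact hx)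
      apply e.injective
      obtain ⟨u, hu⟩ := H06Mod.stalk_surjective _ hS x (e (r • stalkLin (σ ≫ red L I) x (H28Surf.oneAt x)))
      obtain ⟨w', rfl⟩ := (ConcreteCategory.bijective_of_isIso
        ((DerSch.stalkFunctor X x).map (ClSub.idealModι I))).2 u
      rw [map_zero, ← hu]
      exact (H06Mod.stalk_exact _ hS x _).2 ⟨w', rfl⟩

section cokernel

variable (A B : Finset X) (hA : ∀ a ∈ A, IsClosed ({a} : Set X)) (hB : ∀ a ∈ B, IsClosed ({a} : Set X))

theorem pI_le (h : B ⊆ A) : pI A hA ≤ pI B hB :=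
  Scheme.IdealSheafData.le_support_iff_le_vanishingIdeal.1 fun x hx => by
    change x ∈ ((pI A hA).support : Set X)
    rw [support_pI]
    exact h hx

variable {A B}

/-- Dropping one point costs a residue field. -/
theorem coker_stalk (k : Type u) [Field k] [IsAlgClosed k] [X.Over (Spec (CommRingCat.of k))]
    [LocallyOfFiniteType (X ↘ Spec (CommRingCat.of k))] {z : X} (hz : z ∈ A) (hzB : z ∉ B)
    (hAB : ∀ x ∈ A, x ≠ z → x ∈ B) (h : B ⊆ A) :
    let C := cokernel (H22Alg.FatPoints.incl (pI_le A B hA hB h))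
    (∀ x, x ≠ z → Subsingleton (C.presheaf.stalk x)) ∧
      ∃ v₀ : C.presheaf.stalk z, v₀ ≠ 0 ∧ ∀ v, ∃ a : k, v = H26TF1.scalStalk (k := k) z a • v₀ := by
  intro C
  set φ := H22Alg.FatPoints.incl (pI_le A B hA hB h) with hφdef
  haveI : Mono (ClSub.idealModι (pI B hB)) := inferInstanceAs (Mono (kernel.ι _))
  have hS : (ShortComplex.mk φ (cokernel.π φ) (cokernel.condition φ)).ShortExact :=
    { exact := ShortComplex.exact_cokernel φ }
  have hcomp : ∀ x w, stalkLin (ClSub.idealModι (pI B hB)) x (stalkLin φ x w) =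
      stalkLin (ClSub.idealModι (pI A hA)) x w := fun x w => by
    rw [← H29Omega.stalkLin_comp, hφdef, H22Alg.FatPoints.incl_ι]
  have hzero : ∀ x v, stalkLin (ClSub.idealModι (pI B hB)) x v ∈
      LinearMap.range (stalkLin (ClSub.idealModι (pI A hA)) x) → stalkLin (cokernel.π φ) x v = 0 := by
    rintro x v ⟨w, hw⟩
    refine (H06Mod.stalk_exact _ hS x v).2 ⟨w, H17.KoszTwist.stalk_injective_of_mono (ClSub.idealModι (pI B hB)) x ?_⟩
    rw [← hw]
    exact hcomp x w
  refine ⟨fun x hx => ?_, ?_⟩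
  · refine subsingleton_of_forall_eq 0 fun v => ?_
    obtain ⟨v, rfl⟩ := H06Mod.stalk_surjective _ hS x v
    refine hzero x v ?_
    obtain ⟨r, hr⟩ := (H28Surf.oneAt_bijective x).2 (stalkLin (ClSub.idealModι (pI B hB)) x v)
    rw [← hr]
    by_cases hxA : x ∈ A
    · refine (mem_range_iff A hA hxA r).2 ((mem_range_iff B hB (hAB x hxA hx) r).1 ?_)
      exact ⟨v, hr.symm⟩
    · haveI := H25Euler.isIso_stalk_idealModι (pI A hA) (x := x) (by rw [support_pI]; exact hxA)
      exact (ConcreteCategory.bijective_of_isIso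
        ((DerSch.stalkFunctor X x).map (ClSub.idealModι (pI A hA)))).2 _
  · haveI := H25Euler.isIso_stalk_idealModι (pI B hB) (x := z) (by rw [support_pI]; exact hzB)
    have hb := ConcreteCategory.bijective_of_isIso ((DerSch.stalkFunctor X z).map (ClSub.idealModι (pI B hB)))
    obtain ⟨u, hu⟩ := hb.2 (H28Surf.oneAt z)
    replace hu : stalkLin (ClSub.idealModι (pI B hB)) z u = H28Surf.oneAt z := hu
    refine ⟨stalkLin (cokernel.π φ) z u, fun h0 => ?_, fun v => ?_⟩
    · obtain ⟨w, hw⟩ := (H06Mod.stalk_exact _ hS z u).1 h0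
      refine (IsLocalRing.maximalIdeal.isMaximal (X.presheaf.stalk z)).ne_top ((Ideal.eq_top_iff_one _).2 ?_)
      rw [← mem_range_iff A hA hz, one_smul, ← hu]
      exact ⟨w, by rw [← hcomp, hw]⟩
    · obtain ⟨v, rfl⟩ := H06Mod.stalk_surjective _ hS z v
      obtain ⟨r, hr⟩ := (H28Surf.oneAt_bijective z).2 (stalkLin (ClSub.idealModι (pI B hB)) z v)
      obtain ⟨a, ha⟩ := H10Coh.K3Surf.exists_scal_sub_mem (k := k) (hA z hz) r
      refine ⟨a, ?_⟩
      rw [← map_smul, ← sub_eq_zero, ← map_sub]
      refine hzero z _ ?_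
      rw [map_sub, map_smul, hu, ← hr, ← sub_smul]
      exact (mem_range_iff A hA hz _).2 ha

end cokernel

end Groth.Agent.H7CB
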