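import Groth.Agent.H7CB.Coh
import Groth.Agent.H7AdjExt.Main
import Groth.Agent.H28Alg.ExtOne
import Groth.Agent.S12058
import Groth.Agent.H22Alg.CurveProj
import Groth.Agent.H22Alg.KModel
import Groth.Agent.H25Par.GPSlope
import Groth.Agent.H28RR.Adjunction
import Groth.Agent.H27CurveDiv.RelDim
import Mathlib.CategoryTheory.Abelian.ShortExact

/-!
# Rank two Koszul extensions and the Cayley-Bacharach property
-/

set_option autoImplicit false
set_option linter.style.haveILetI false
set_option linter.unusedSectionVars false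
set_option backward.isDefEq.respectTransparency false
set_option maxHeartbeats 2000000
set_option synthInstance.maxHeartbeats 400000

universe u

open CategoryTheory CategoryTheory.Limits AlgebraicGeometry TopologicalSpace Opposite

noncomputable section

namespace Groth.Agent.H7CB

open Groth.Agent.H06Mod

variable {X : Scheme.{u}}

/-- A strictly larger ideal contains the ideal of the set minus a point. -/
theorem exists_pI_le [DecidableEq X] (Z : Finset X) (hZ : ∀ a ∈ Z, IsClosed ({a} : Set X)) {I' : X.IdealSheafData}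
    (h : pI Z hZ < I') :
    ∃ z ∈ Z, pI (Z.erase z) (fun a ha => hZ a (Finset.mem_of_mem_erase ha)) ≤ I' := by
  obtain ⟨z, hz, hzI⟩ : ∃ z ∈ Z, z ∉ I'.support := by
    by_contra hcon
    push Not at hcon
    exact h.not_ge (Scheme.IdealSheafData.le_support_iff_le_vanishingIdeal.1 fun x hx => hcon x hx)
  refine ⟨z, hz, fun U a ha => ?_⟩
  let hs : ∀ b ∈ ({z} : Finset X), IsClosed ({b} : Set X) := fun b hb => by
    rw [Finset.mem_singleton.1 hb]; exact hZ z hz
  have htop : I'.ideal U ⊔ (pI {z} hs).ideal U = ⊤ := by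
    rw [show I'.ideal U ⊔ (pI {z} hs).ideal U = (I' ⊔ pI {z} hs).ideal U by rw [Scheme.IdealSheafData.ideal_sup]; rfl]
    refine H17.Seshadri.ideal_eq_top _ U fun y _ hy => ?_
    rw [Scheme.IdealSheafData.support_sup] at hy
    have hy2 : y ∈ ((pI {z} hs).support : Set X) := hy.2
    rw [support_pI, Finset.coe_singleton, Set.mem_singleton_iff] at hy2
    exact hzI (hy2 ▸ hy.1)
  obtain ⟨i, hi, b, hb, hib⟩ := Submodule.mem_sup.1 ((Ideal.eq_top_iff_one _).1 htop)
  rw [show a = a * i + a * b by rw [← mul_add, hib, mul_one]]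
  refine add_mem (Ideal.mul_mem_left _ _ hi) (h.le U ?_)
  rw [pI, Scheme.IdealSheafData.vanishingIdeal_ideal] at ha hb
  rw [pI, Scheme.IdealSheafData.vanishingIdeal_ideal]
  rw [PrimeSpectrum.mem_vanishingIdeal] at ha hb ⊢
  intro p hp
  by_cases hpz : U.2.fromSpec p = z
  · exact Ideal.mul_mem_left _ _ (hb p (Finset.mem_singleton.2 hpz))
  · exact Ideal.mul_mem_right _ _ (ha p (Finset.mem_erase.2 ⟨hpz, hp⟩))

/-- A functional missing finitely many nonzero vectors. -/
theorem exists_dual_forall_ne_zero {k V ι : Type u} [Field k] [Infinite k] [AddCommGroup V] [Module k V] [Finite ι]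
    (d : ι → V) (h : ∀ i, d i ≠ 0) : ∃ ψ : Module.Dual k V, ∀ i, ψ (d i) ≠ 0 := by
  obtain ⟨ψ, hψ⟩ := Submodule.exists_forall_notMem_of_forall_ne_top
    (fun i => LinearMap.ker (Module.Dual.eval k V (d i))) fun i hi => h i (by
      refine (Module.forall_dual_apply_eq_zero_iff k (d i)).1 fun f => ?_
      have : f ∈ LinearMap.ker (Module.Dual.eval k V (d i)) := by rw [hi]; trivial
      exact this)
  exact ⟨ψ, hψ⟩

variable {k : Type u} [Field k] [IsAlgClosed k] [X.Over (Spec (CommRingCat.of k))]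
  [IsProper (X ↘ Spec (CommRingCat.of k))] [IsIntegral X]

attribute [local instance 10000] H10Coh.hasSheafifyAb H10Coh.hasWeakSheafifyAb H10Coh.hasExtAb H10Coh.enoughInjAb

include k in
theorem isFinLocFreeOfRank_two [IsLocallyNoetherian X] {E L : X.Modules} (hL : PicF.IsInvertible L)
    (I : X.IdealSheafData) (hg : genericPoint X ∉ (I.support : Set X))
    (a : Coh.structureModule X ⟶ E) (b : E ⟶ CohB1.tensorMod L (ClSub.idealMod I)) (w : a ≫ b = 0)
    (hS : (ShortComplex.mk a b w).ShortExact) (hE : FlatMod.IsFinLocFree E) :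
    FlatMod.IsFinLocFreeOfRank 2 E := by
  obtain ⟨n, hn⟩ := H22Alg.KModel.exists_rank hE
  suffices h : n = 2 from h ▸ hn
  let g := genericPoint X
  letI : Field (X.presheaf.stalk g) := inferInstanceAs (Field X.functionField)
  obtain ⟨-, hf, hr⟩ := H25Par.finrank_stalk hn g
  obtain ⟨V, hV, el, c, hel, -⟩ := H10Coh.RegSeq.exists_local hL (0 : Coh.structureModule X ⟶ L) g
  obtain ⟨e₃⟩ := nonempty_stalk_tensor hel (ClSub.idealMod I)
  haveI := H25Euler.isIso_stalk_idealModι I hg
  let u : (Coh.structureModule X).presheaf.stalk g ≃ₗ[X.presheaf.stalk g] X.presheaf.stalk g :=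
    (LinearEquiv.ofBijective (LinearMap.toSpanSingleton _ _ (H28Surf.oneAt g)) (H28Surf.oneAt_bijective g)).symm
  let e₄ := e₃.trans ((LinearEquiv.ofBijective (stalkLin (ClSub.idealModι I) g)
    (ConcreteCategory.bijective_of_isIso ((DerSch.stalkFunctor X g).map (ClSub.idealModι I)))).trans u)
  have hinj := H06Mod.stalk_injective _ hS g
  have hsurj := H06Mod.stalk_surjective _ hS g
  have hk : LinearMap.ker (stalkLin b g) = LinearMap.range (stalkLin a g) :=
    LinearMap.exact_iff.1 (H06Mod.stalk_exact _ hS g)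
  haveI := hf
  have h := LinearMap.finrank_range_add_finrank_ker (stalkLin b g)
  rw [hk, LinearMap.range_eq_top.2 hsurj, finrank_top, LinearMap.finrank_range_of_inj hinj, hr] at h
  have h₁ : Module.finrank (X.presheaf.stalk g) ((Coh.structureModule X).presheaf.stalk g) = 1 :=
    u.finrank_eq.trans (Module.finrank_self _)
  have h₃ : Module.finrank (X.presheaf.stalk g)
      ((CohB1.tensorMod L (ClSub.idealMod I)).presheaf.stalk g) = 1 :=
    e₄.finrank_eq.trans (Module.finrank_self _)
  exact h.symm.trans (congrArg₂ (· + ·) h₃ h₁)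

theorem main [Smooth (X ↘ Spec (CommRingCat.of k))] (hdim : topologicalKrullDim X = 2)
    (H : X.Modules) (hH : CohB1.IsAmple H) (L : X.Modules) (hL : PicF.IsInvertible L)
    (ω : X.Modules) (hω : ExtPow.IsExtPow 2 (Omega.sheaf (X ↘ (Spec (CommRingCat.of k)))) ω)
    (Z : Finset X) (hZ : ∀ z ∈ Z, IsClosed ({z} : Set X)) :
    (∃ (E : X.Modules) (sE : Coh.structureModule X ⟶ E)
        (p : E ⟶ CohB1.tensorMod L (ClSub.idealMod (pI Z hZ)))
        (w : sE ≫ p = 0), FlatMod.IsFinLocFreeOfRank 2 E ∧ (ShortComplex.mk sE p w).ShortExact) ↔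
      (∀ z ∈ Z, ∀ σ : Coh.structureModule X ⟶ CohB1.tensorMod L ω,
        (∀ z' ∈ Z, z' ≠ z → z' ∈ (PicF2.zeroScheme (CohB1.tensorMod L ω) σ).support) →
          z ∈ (PicF2.zeroScheme (CohB1.tensorMod L ω) σ).support) := by
  classical
  haveI := H10Coh.Stab.isLocallyNoetherian_of_proper (Z := X) k
  haveI : SmoothOfRelativeDimension 2 (X ↘ Spec (CommRingCat.of k)) :=
    H27CurveDiv.smoothOfRelativeDimension_of_dim _ 2 hdim
  haveI : IsGrothendieckAbelian.{u} X.Modules := H10Coh.isGrothendieckAbelian_sheafOfModules _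
  haveI : EnoughInjectives X.Modules := inferInstance
  haveI : HasExt.{u} X.Modules := inferInstance
  have hreg : ∀ x : X, IsRegularLocalRing (X.presheaf.stalk x) := fun x =>
    H19Grp.isRegularLocalRing_stalk_of_smooth (k := k) (X ↘ Spec (CommRingCat.of k)) x
  have hX : topologicalKrullDim X = ((2 : ℕ) : WithBot ℕ∞) := by exact_mod_cast hdim
  have hωi : PicF.IsInvertible ω := H28RR.isInvertible_canonical (k := k) hdim hω
  -- the duality
  obtain ⟨n, ι, hι, hιq⟩ := H22Alg.CurveProj.exists_closedImmersion k X hH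
  obtain ⟨t, ht⟩ := H17.FLI.exists_repDual_topForms ι hιq hω
    (H17.DualSh.add_sub_le (H17.FLI.le_of_nonempty ι hιq) (H17.FLI.dim_le_of_smooth k))
  have hθ : ∀ F : X.Modules, Coh.IsCoh F →
      Function.Bijective (H17.DualSh.theta t F (one_add_one_eq_two : 1 + 1 = 2)) := fun F hF =>
    H17.DualSh.theta_bijective_range ι hιq (H17.FLI.isCoh_topForms ι hιq hω) ht le_rfl
      (fun q hq _ => H17.DualSh.van_of_cm ι (H17.FLI.smooth_dim k) (H17.FLI.smooth_cm k) q hq) hF one_le_two _
  -- the twist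
  set N := CohB1.tensorMod L ω with hNdef
  have hN : PicF.IsInvertible N := H11Ample.isInvertible_tensor hL hωi
  obtain ⟨N', -, ⟨eN⟩⟩ := H11Sym.exists_inverse hN
  obtain ⟨L', hL', ⟨eL⟩⟩ := H11Sym.exists_inverse hL
  let T := (DCoh.tensorBi (X := X)).obj N
  let V := (DCoh.tensorBi (X := X)).obj L'
  let W := (DCoh.tensorBi (X := X)).obj L
  haveI : T.IsEquivalence := H15Site.Invertible.isEquivalence_of_iso_unit (O := X.sheaf) (L := N) (N := N')
    (H11Ample.tensorCommIso N N' ≪≫ eN)
  haveI : V.IsEquivalence := H15Site.Invertible.isEquivalence_of_iso_unit (O := X.sheaf) (L := L') (N := L) eL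
  haveI : W.IsEquivalence := H15Site.Invertible.isEquivalence_of_iso_unit (O := X.sheaf) (L := L) (N := L')
    (H11Ample.tensorCommIso L L' ≪≫ eL)
  haveI : T.Additive := Functor.additive_of_preserves_binary_products _
  haveI : V.Additive := Functor.additive_of_preserves_binary_products _
  haveI : W.Additive := Functor.additive_of_preserves_binary_products _
  let oL : CohB1.tensorMod L L' ≅ Coh.structureModule X := H11Ample.tensorCommIso L L' ≪≫ eL
  let j : T.obj L' ≅ ω :=
    H10Coh.Tw.commIso N L' ≪≫ (H10Coh.Tw.assoc L' L ω).symm ≪≫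
      PicGrp.tensorModIso eL (Iso.refl ω) ≪≫ H11Ample.tensorLeftUnitIso ω
  -- notation for the family
  let Z' : X → Finset X := fun z => Z.erase z
  have hZ' : ∀ z, ∀ a ∈ Z' z, IsClosed ({a} : Set X) := fun z a ha => hZ a (Finset.mem_of_mem_erase ha)
  let φ : ∀ z, ClSub.idealMod (pI Z hZ) ⟶ ClSub.idealMod (pI (Z' z) (hZ' z)) := fun z =>
    H22Alg.FatPoints.incl (pI_le Z (Z' z) hZ (hZ' z) (Finset.erase_subset z Z))
  let S : X → ShortComplex X.Modules := fun z =>
    (ShortComplex.mk (φ z) (cokernel.π (φ z)) (cokernel.condition (φ z))).map T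
  have hS : ∀ z, (S z).ShortExact := fun z => by
    haveI : Mono (φ z) := inferInstanceAs (Mono (H22Alg.FatPoints.incl _))
    exact (show (ShortComplex.mk (φ z) (cokernel.π (φ z)) (cokernel.condition (φ z))).ShortExact from
      { exact := ShortComplex.exact_cokernel (φ z) }).map_of_exact T
  have hcoh : ∀ I : X.IdealSheafData, Coh.IsCoh (T.obj (ClSub.idealMod I)) := fun I =>
    H10Coh.isCoh_of_iso (H10Coh.Tw.commIso _ _) (H11Ample.isCoh_tensor (H22Alg.IdealPowFam.isCoh_idealMod I) hN)
  have hlocal : ∀ z ∈ Z, (∀ x, x ≠ z → Subsingleton ((S z).X₃.presheaf.stalk x)) ∧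
      ∃ v₀ : (S z).X₃.presheaf.stalk z, v₀ ≠ 0 ∧ ∀ v, ∃ a : k, v = H26TF1.scalStalk (k := k) z a • v₀ := by
    intro z hz
    obtain ⟨hoff, v₀, hv₀, hgen⟩ := coker_stalk hZ (hZ' z) k hz (Finset.notMem_erase z Z)
      (fun x hx hne => Finset.mem_erase.2 ⟨hne, hx⟩) (Finset.erase_subset z Z)
    refine ⟨fun x hx => ?_, ?_⟩
    · obtain ⟨V', hV', el, c, hel, -⟩ := H10Coh.RegSeq.exists_local hN (0 : Coh.structureModule X ⟶ N) x
      obtain ⟨e⟩ := nonempty_stalk_tensor hel (cokernel (φ z))
      haveI := hoff x hx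
      exact e.toEquiv.subsingleton
    · obtain ⟨V', hV', el, c, hel, -⟩ := H10Coh.RegSeq.exists_local hN (0 : Coh.structureModule X ⟶ N) z
      obtain ⟨e⟩ := nonempty_stalk_tensor hel (cokernel (φ z))
      refine ⟨e.symm v₀, fun h => hv₀ (e.symm.injective (h.trans (map_zero _).symm)), fun v => ?_⟩
      obtain ⟨a, ha⟩ := hgen (e v)
      exact ⟨a, e.injective (by rw [map_smul, LinearEquiv.apply_symm_apply]; exact ha)⟩
  have hH1 : ∀ z ∈ Z, Subsingleton (Coh.HH X (S z).X₃ 1) := fun z hz =>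
    subsingleton_H1 (hZ z hz) (hlocal z hz).1
  -- sections of the twisted ideal are the sections vanishing on the set
  let iN : ∀ (A : Finset X) (hA : ∀ a ∈ A, IsClosed ({a} : Set X)), T.obj (ClSub.idealMod (pI A hA)) ⟶ N :=
    fun A hA => T.map (ClSub.idealModι (pI A hA)) ≫ (H28Vert.tensorRightUnitIso (X := X)).hom.app N
  have hiN : ∀ z, T.map (φ z) ≫ iN (Z' z) (hZ' z) = iN Z hZ := fun z => by
    show T.map (φ z) ≫ T.map _ ≫ _ = T.map _ ≫ _
    rw [← Functor.map_comp_assoc, H22Alg.FatPoints.incl_ι]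
  have hsec : ∀ (A : Finset X) (hA : ∀ a ∈ A, IsClosed ({a} : Set X)) (σ : Coh.structureModule X ⟶ N),
      (∀ a ∈ A, a ∈ (PicF2.zeroScheme N σ).support) ↔ ∃ σ', σ' ≫ iN A hA = σ := by
    intro A hA σ
    obtain ⟨w, hred⟩ := shortExact_red hN (pI A hA)
    rw [← comp_red_eq_zero_iff hN A hA σ]
    refine ⟨fun h => ?_, ?_⟩
    · obtain ⟨l, hl⟩ := KernelFork.IsLimit.lift' hred.fIsKernel σ h
      exact ⟨l, hl⟩
    · rintro ⟨σ', rfl⟩
      rw [Category.assoc, w, comp_zero]
  constructor
  · rintro ⟨E, sE, p, w, hE, hex⟩ z hz σ hσ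
    by_contra hzσ
    obtain ⟨σ', hσ'⟩ := (hsec (Z' z) (hZ' z) σ).1 fun a ha =>
      hσ a (Finset.mem_of_mem_erase ha) (Finset.ne_of_mem_erase ha)
    obtain ⟨hoff, v₀, hv₀, hgen⟩ := hlocal z hz
    have hne : σ' ≫ (S z).g ≠ 0 := fun h => hzσ ((hsec Z hZ σ).2 (by
      obtain ⟨l, hl⟩ := KernelFork.IsLimit.lift' (hS z).fIsKernel σ' h
      refine ⟨l, ?_⟩
      have hl' : l ≫ T.map (φ z) = σ' := hl
      rw [← hiN z, ← Category.assoc, hl', hσ']) z hz)
    have hinj := injective_of_section (hS z) (hZ z hz) hoff v₀ hgen σ' hne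
    -- the extension of the ideal
    let u : V.obj (CohB1.tensorMod L (ClSub.idealMod (pI Z hZ))) ≅ ClSub.idealMod (pI Z hZ) :=
      (H15Site.Invertible.tLComp (O := X.sheaf) L' L).app _ ≪≫
        ((DCoh.tensorBi (X := X)).mapIso eL).app _ ≪≫ (H15Site.ModOver.tensorUnitIso X.sheaf).app _
    let r : V.obj (Coh.structureModule X) ≅ L' := (H28Vert.tensorRightUnitIso (X := X)).app L'
    let a := r.inv ≫ V.map sE
    let b := V.map p ≫ u.hom
    have w' : a ≫ b = 0 := by rw [Category.assoc, ← Functor.map_comp_assoc, w, Functor.map_zero, zero_comp, comp_zero]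
    have hab : (ShortComplex.mk a b w').ShortExact :=
      ShortComplex.shortExact_of_iso (S₁ := (ShortComplex.mk sE p w).map V)
        (ShortComplex.isoMk r (Iso.refl _) u (by dsimp [a]; rw [Iso.hom_inv_id_assoc, Category.comp_id]; rfl)
          (by dsimp [b]; rw [Category.id_comp]; rfl)) (hex.map_of_exact V)
    have hF : FlatMod.IsFinLocFree (V.obj E) := H16Derived.KFlat.Stalk.isFinLocFree_tensor
      (H22Alg.KModel.finLocFree_invertible hL') fun x => let ⟨U, hU⟩ := hE x; ⟨U, 2, hU⟩
    have w₁ : (j.inv ≫ T.map a) ≫ T.map b = 0 := by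
      rw [Category.assoc, ← Functor.map_comp, w', Functor.map_zero, comp_zero]
    have h₁ : (ShortComplex.mk (j.inv ≫ T.map a) (T.map b) w₁).ShortExact :=
      ShortComplex.shortExact_of_iso (S₁ := (ShortComplex.mk a b w').map T)
        (ShortComplex.isoMk j (Iso.refl _) (Iso.refl _) (by dsimp; rw [Iso.hom_inv_id_assoc, Category.comp_id]; rfl)
          (by dsimp; rw [Category.id_comp, Category.comp_id]; rfl)) (hab.map_of_exact T)
    obtain ⟨η, hη⟩ := exists_comp_eq t hθ (hS z) (hcoh _) (hcoh _) (hH1 z hz) h₁.extClass fun x hx => by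
      rw [hinj x hx, map_zero]
    obtain ⟨G, aG, bG, wG, hG, rfl⟩ := H28Alg.exists_shortExact_extClass_eq η
    obtain ⟨g, hg1, hg2⟩ := H28Alg.exists_map_of_extClass_comp h₁ hG (𝟙 ω) (T.map (φ z))
      (by rw [Abelian.Ext.comp_mk₀_id]; exact hη)
    let G₀ := T.objPreimage G
    let eG := T.objObjPreimageIso G
    let a₀ : L' ⟶ G₀ := T.preimage (j.hom ≫ aG ≫ eG.inv)
    let b₀ : G₀ ⟶ ClSub.idealMod (pI (Z' z) (hZ' z)) := T.preimage (eG.hom ≫ bG)
    have w₀ : a₀ ≫ b₀ = 0 := T.map_injective (by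
      rw [Functor.map_comp, Functor.map_preimage, Functor.map_preimage, Functor.map_zero, Category.assoc,
        Category.assoc, Iso.inv_hom_id_assoc]
      exact (congrArg (j.hom ≫ ·) wG).trans comp_zero)
    have h₀ : (ShortComplex.mk a₀ b₀ w₀).ShortExact :=
      (CategoryTheory.ShortExact.shortExact_map_iff T).1 (ShortComplex.shortExact_of_iso
        (S₁ := ShortComplex.mk aG bG wG)
        (ShortComplex.isoMk j.symm eG.symm (Iso.refl _)
          (by change j.inv ≫ T.map (T.preimage _) = aG ≫ eG.inv; rw [Functor.map_preimage, Iso.inv_hom_id_assoc])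
          (by change eG.inv ≫ T.map (T.preimage _) = bG ≫ 𝟙 _; rw [Functor.map_preimage, Iso.inv_hom_id_assoc]; exact (Category.comp_id _).symm)) hG)
    have hlt : pI Z hZ < pI (Z' z) (hZ' z) := lt_of_le_of_ne (pI_le Z (Z' z) hZ (hZ' z) (Finset.erase_subset z Z))
      fun h => Finset.notMem_erase z Z (show z ∈ ((Z.erase z : Finset X) : Set X) by
        rw [← support_pI (Z' z) (hZ' z), ← h, support_pI]; exact hz)
    refine (H7AdjExt.main (k := k) hX hreg L' hL' (pI Z hZ) (by rw [support_pI]; exact Z.finite_toSet)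
      (V.obj E) a b w' hab).2 ⟨pI (Z' z) (hZ' z), G₀, a₀, b₀, w₀, φ z, T.preimage (g ≫ eG.inv), hlt, h₀,
        H22Alg.FatPoints.incl_ι _, T.map_injective ?_, T.map_injective ?_⟩ hF
    · rw [Functor.map_comp, Functor.map_preimage, Functor.map_preimage]
      have hg1' : (j.inv ≫ T.map a) ≫ g = aG := hg1.trans (Category.id_comp _)
      refine Eq.trans ?_ (congrArg (fun q => j.hom ≫ q ≫ eG.inv) hg1')
      simp only [Category.assoc, Iso.hom_inv_id_assoc]
    · rw [Functor.map_comp, Functor.map_preimage, Functor.map_preimage, Functor.map_comp]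
      simp only [Category.assoc, Iso.inv_hom_id_assoc]
      exact hg2
  · intro hcb
    -- a functional missing the kernels
    have hker : ∀ z : {z // z ∈ Z}, ∃ x : Coh.HH X (T.obj (ClSub.idealMod (pI Z hZ))) 1,
        x ≠ 0 ∧ Canon.HHlin k (S z.1).f 1 x = 0 := by
      rintro ⟨z, hz⟩
      obtain ⟨hoff, v₀, hv₀, -⟩ := hlocal z hz
      refine exists_ne_zero_of_sections (hS z) (hZ z hz) hoff (nontrivial_of_ne v₀ 0 hv₀) fun σ' => ?_
      obtain ⟨l, hl⟩ := (hsec Z hZ (σ' ≫ iN (Z' z) (hZ' z))).1 fun a ha => by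
        by_cases haz : a = z
        · subst haz
          exact hcb a ha _ fun a' ha' hne => (hsec (Z' a) (hZ' a) _).2 ⟨σ', rfl⟩ a'
            (Finset.mem_erase.2 ⟨hne, ha'⟩)
        · exact (hsec (Z' z) (hZ' z) _).2 ⟨σ', rfl⟩ a (Finset.mem_erase.2 ⟨haz, ha⟩)
      haveI : Mono (iN (Z' z) (hZ' z)) := by
        obtain ⟨w, hred⟩ := shortExact_red hN (pI (Z' z) (hZ' z))
        exact hred.mono_f
      rw [← hiN z, ← Category.assoc, cancel_mono] at hl
      rw [← hl, Category.assoc]
      exact (congrArg (l ≫ ·) (S z).zero).trans comp_zero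
    choose d hd0 hdk using hker
    obtain ⟨ψ, hψ⟩ := exists_dual_forall_ne_zero (k := k) d hd0
    obtain ⟨ξ, hξ⟩ := (hθ _ (hcoh (pI Z hZ))).2 ψ
    obtain ⟨G, aG, bG, wG, hG, rfl⟩ := H28Alg.exists_shortExact_extClass_eq ξ
    let F := T.objPreimage G
    let eF := T.objObjPreimageIso G
    let a : L' ⟶ F := T.preimage (j.hom ≫ aG ≫ eF.inv)
    let b : F ⟶ ClSub.idealMod (pI Z hZ) := T.preimage (eF.hom ≫ bG)
    have w : a ≫ b = 0 := T.map_injective (by
      rw [Functor.map_comp, Functor.map_preimage, Functor.map_preimage, Functor.map_zero, Category.assoc,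
        Category.assoc, Iso.inv_hom_id_assoc]
      exact (congrArg (j.hom ≫ ·) wG).trans comp_zero)
    have hab : (ShortComplex.mk a b w).ShortExact :=
      (CategoryTheory.ShortExact.shortExact_map_iff T).1 (ShortComplex.shortExact_of_iso
        (S₁ := ShortComplex.mk aG bG wG)
        (ShortComplex.isoMk j.symm eF.symm (Iso.refl _)
          (by change j.inv ≫ T.map (T.preimage _) = aG ≫ eF.inv; rw [Functor.map_preimage, Iso.inv_hom_id_assoc])
          (by change eF.inv ≫ T.map (T.preimage _) = bG ≫ 𝟙 _; rw [Functor.map_preimage, Iso.inv_hom_id_assoc]; exact (Category.comp_id _).symm)) hG)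
    have hF : FlatMod.IsFinLocFree F := by
      by_contra hF
      obtain ⟨I', F', a', b', w', φ', g, hlt, hex', hφ', hg1, hg2⟩ :=
        (H7AdjExt.main (k := k) hX hreg L' hL' (pI Z hZ) (by rw [support_pI]; exact Z.finite_toSet)
          F a b w hab).1 hF
      obtain ⟨z, hz, hle⟩ := exists_pI_le Z hZ hlt
      let κ := H22Alg.FatPoints.incl hle
      have hκ : φ z ≫ κ = φ' := by
        haveI : Mono (ClSub.idealModι I') := inferInstanceAs (Mono (kernel.ι _))
        rw [← cancel_mono (ClSub.idealModι I'), Category.assoc, H22Alg.FatPoints.incl_ι, hφ']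
        exact H22Alg.FatPoints.incl_ι _
      have w₂ : (j.inv ≫ T.map a') ≫ T.map b' = 0 := by
        rw [Category.assoc, ← Functor.map_comp, w', Functor.map_zero, comp_zero]
      have h₂ : (ShortComplex.mk (j.inv ≫ T.map a') (T.map b') w₂).ShortExact :=
        ShortComplex.shortExact_of_iso (S₁ := (ShortComplex.mk a' b' w').map T)
          (ShortComplex.isoMk j (Iso.refl _) (Iso.refl _) (by dsimp; rw [Iso.hom_inv_id_assoc, Category.comp_id]; rfl)
            (by dsimp; rw [Category.id_comp, Category.comp_id]; rfl)) (hex'.map_of_exact T)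
      have hcl := S12058.extClass_naturality' hG h₂ (𝟙 ω) (eF.inv ≫ T.map g) (T.map φ')
        (by
          show aG ≫ eF.inv ≫ T.map g = 𝟙 ω ≫ j.inv ≫ T.map a'
          rw [Category.id_comp, ← hg1, Functor.map_comp, Functor.map_preimage]
          simp only [Category.assoc, Iso.inv_hom_id_assoc])
        (by
          show (eF.inv ≫ T.map g) ≫ T.map b' = bG ≫ T.map φ'
          rw [Category.assoc, ← Functor.map_comp, hg2, Functor.map_comp, Functor.map_preimage]
          simp only [Category.assoc, Iso.inv_hom_id_assoc])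
      refine hψ ⟨z, hz⟩ ?_
      rw [Abelian.Ext.comp_mk₀_id, ← hκ, Functor.map_comp, ← Abelian.Ext.mk₀_comp_mk₀,
        Abelian.Ext.comp_assoc_of_second_deg_zero] at hcl
      rw [← hξ, hcl, H17.DualSh.theta_mk₀_comp]
      exact (congrArg _ (hdk ⟨z, hz⟩)).trans (map_zero _)
    -- twist back
    let r : W.obj L' ≅ Coh.structureModule X := oL
    have wE : (r.inv ≫ W.map a) ≫ W.map b = 0 := by
      rw [Category.assoc, ← Functor.map_comp, w, Functor.map_zero, comp_zero]
    have hE : (ShortComplex.mk (r.inv ≫ W.map a) (W.map b) wE).ShortExact :=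
      ShortComplex.shortExact_of_iso (S₁ := (ShortComplex.mk a b w).map W)
        (ShortComplex.isoMk r (Iso.refl _) (Iso.refl _) (by dsimp; rw [Iso.hom_inv_id_assoc, Category.comp_id]; rfl)
          (by dsimp; rw [Category.id_comp, Category.comp_id]; rfl)) (hab.map_of_exact W)
    have hWF : FlatMod.IsFinLocFree (W.obj F) :=
      H16Derived.KFlat.Stalk.isFinLocFree_tensor (H22Alg.KModel.finLocFree_invertible hL) hF
    refine ⟨W.obj F, r.inv ≫ W.map a, W.map b, wE, ?_, hE⟩
    refine isFinLocFreeOfRank_two (k := k) hL (pI Z hZ) ?_ _ _ wE hE hWF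
    rw [support_pI]
    intro hg
    -- the generic point of a surface is not closed
    have hu : ({genericPoint X} : Set X) = Set.univ := by
      rw [← (hZ _ hg).closure_eq]
      exact genericPoint_spec X
    haveI : Subsingleton X := subsingleton_of_forall_eq (genericPoint X) fun x =>
      Set.mem_singleton_iff.1 (hu ▸ Set.mem_univ x)
    have h2 := hX.symm.trans_le (topologicalKrullDim_zero_of_discreteTopology X)
    exact absurd h2 (by norm_cast)

end Groth.Agent.H7CB
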