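import Groth.Agent.H7CB.Ineq
import Groth.Agent.H27CurveDiv.RelDim
import Groth.Agent.H19Grp.RegularSmooth
import Groth.Agent.H29Curve.FieldFibres
import Groth.Agent.H27Weil.Geometry

/-!
# Finite local complete intersections on a smooth surface
-/

set_option autoImplicit false
set_option linter.style.haveILetI false
set_option linter.unusedSectionVars false
set_option maxHeartbeats 800000
set_option synthInstance.maxHeartbeats 200000

universe u

open CategoryTheory CategoryTheory.Limits AlgebraicGeometry

noncomputable section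

namespace Groth.Agent.H7CB

/-- The points of a finite complete intersection on a smooth surface and their socle elements. -/
theorem exists_points_socle (k : Type u) [Field k] {X : Scheme.{u}} [X.Over (Spec (CommRingCat.of k))]
    [Smooth (X ↘ Spec (CommRingCat.of k))] [IsProper (X ↘ Spec (CommRingCat.of k))] [IrreducibleSpace X]
    (hdim : topologicalKrullDim X = 2) (I : X.IdealSheafData) (hfin : (I.support : Set X).Finite)
    (hlci : ∀ x : X, ∃ V : X.affineOpens, x ∈ (V : X.Opens) ∧
      ∃ a b : Γ(X, V), I.ideal V = Ideal.span {a, b}) :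
    ∃ S : Finset X, (S : Set X) = I.support ∧ (∀ z ∈ S, IsClosed ({z} : Set X)) ∧
      ∀ z : S, ∃ d : X.presheaf.stalk (z : X), d ∉ stI I (z : X) ∧
        (∀ m ∈ IsLocalRing.maximalIdeal (X.presheaf.stalk (z : X)), m * d ∈ stI I (z : X)) ∧
        ∀ J : Ideal (X.presheaf.stalk (z : X)), stI I (z : X) < J → d ∈ J := by
  haveI : JacobsonSpace X := LocallyOfFiniteType.jacobsonSpace (X ↘ Spec (CommRingCat.of k))
  haveI : SmoothOfRelativeDimension 2 (X ↘ Spec (CommRingCat.of k)) :=
    H27CurveDiv.smoothOfRelativeDimension_of_dim _ 2 hdim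
  have hcl : ∀ z ∈ (I.support : Set X), IsClosed ({z} : Set X) := fun z hz =>
    H29Curve.isClosed_singleton_of_finite_of_isClosed I.support.isClosed hfin hz
  refine ⟨hfin.toFinset, hfin.coe_toFinset, fun z hz => hcl z (hfin.mem_toFinset.1 hz), fun z => ?_⟩
  have hz := hfin.mem_toFinset.1 z.2
  haveI := H19Grp.isRegularLocalRing_stalk_of_smooth (k := k) (X ↘ Spec (CommRingCat.of k)) (z : X)
  obtain ⟨d, hd, hm, hmin⟩ := exists_socle I hcl hz
    (H17.FLI.smooth_cm k (r := 2) (z : X) (hcl _ hz)).2 (hlci _)
  exact ⟨d, hd, hm, hmin⟩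

end Groth.Agent.H7CB
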