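import Groth.Agent.H7CB.Main
import Groth.Agent.H7CB.Surface

/-!
# Rank two extensions for finite local complete intersections and the Cayley-Bacharach property
-/

set_option autoImplicit false
set_option linter.style.haveILetI false
set_option linter.unusedSectionVars false
set_option backward.isDefEq.respectTransparency false
set_option maxHeartbeats 2000000
set_option synthInstance.maxHeartbeats 400000

universe u

open CategoryTheory CategoryTheory.Limits AlgebraicGeometry TopologicalSpace Opposite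

noncomputable section

namespace Groth.Agent.H7CB

open Groth.Agent.H06Mod

variable {k : Type u} [Field k] [IsAlgClosed k] {X : Scheme.{u}} [X.Over (Spec (CommRingCat.of k))]
  [IsProper (X ↘ Spec (CommRingCat.of k))] [IsIntegral X]

/-- A socle element spans the quotient of the covering ideal it defines. -/
theorem coker_socle {I J : X.IdealSheafData} (h : I ≤ J) {z : X} (hz : IsClosed ({z} : Set X))
    (d : X.presheaf.stalk z) (hd : d ∉ stI I z)
    (hm : ∀ m ∈ IsLocalRing.maximalIdeal (X.presheaf.stalk z), m * d ∈ stI I z)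
    (hdJ : d ∈ stI J z) (hoff : ∀ x, x ≠ z → stI J x = stI I x)
    (hspan : ∀ r ∈ stI J z, ∃ s, r - s * d ∈ stI I z) :
    let C := cokernel (H22Alg.FatPoints.incl h)
    (∀ x, x ≠ z → Subsingleton (C.presheaf.stalk x)) ∧
      ∃ v₀ : C.presheaf.stalk z, v₀ ≠ 0 ∧ ∀ v, ∃ a : k, v = H26TF1.scalStalk (k := k) z a • v₀ := by
  intro C
  set φ := H22Alg.FatPoints.incl h with hφdef
  haveI : Mono (ClSub.idealModι J) := inferInstanceAs (Mono (kernel.ι _))
  have hS : (ShortComplex.mk φ (cokernel.π φ) (cokernel.condition φ)).ShortExact :=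
    { exact := ShortComplex.exact_cokernel φ }
  have hzero : ∀ x v r, stalkLin (ClSub.idealModι J) x v = r • H28Surf.oneAt x → r ∈ stI I x →
      stalkLin (cokernel.π φ) x v = 0 := by
    intro x v r hv hr
    obtain ⟨w, hw⟩ := (smul_mem_range_iff I x r).2 hr
    refine (H06Mod.stalk_exact _ hS x v).2 ⟨w, H17.KoszTwist.stalk_injective_of_mono (ClSub.idealModι J) x ?_⟩
    rw [hv, ← hw, ← H29Omega.stalkLin_comp, hφdef, H22Alg.FatPoints.incl_ι]
  have hrep : ∀ x v, ∃ r ∈ stI J x, stalkLin (ClSub.idealModι J) x v = r • H28Surf.oneAt x := fun x v =>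
    ⟨_, ⟨v, rfl⟩, stalkLin_idealModι J x v⟩
  refine ⟨fun x hx => subsingleton_of_forall_eq 0 fun v => ?_, ?_⟩
  · obtain ⟨v, rfl⟩ := H06Mod.stalk_surjective _ hS x v
    obtain ⟨r, hr, hv⟩ := hrep x v
    exact hzero x v r hv ((hoff x hx).le hr)
  · obtain ⟨u, hu⟩ := (smul_mem_range_iff J z d).2 hdJ
    refine ⟨stalkLin (cokernel.π φ) z u, fun h0 => ?_, fun v => ?_⟩
    · obtain ⟨w, hw⟩ := (H06Mod.stalk_exact _ hS z u).1 h0
      refine hd ((smul_mem_range_iff I z d).1 ⟨w, ?_⟩)
      have hw' : stalkLin φ z w = u := hw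
      rw [← hu, ← hw', ← H29Omega.stalkLin_comp, hφdef, H22Alg.FatPoints.incl_ι]
    · obtain ⟨v, rfl⟩ := H06Mod.stalk_surjective _ hS z v
      obtain ⟨r, hr, hv⟩ := hrep z v
      obtain ⟨s, hs⟩ := hspan r hr
      obtain ⟨a, ha⟩ := H10Coh.K3Surf.exists_scal_sub_mem (k := k) hz s
      refine ⟨a, ?_⟩
      rw [← map_smul, ← sub_eq_zero, ← map_sub]
      refine hzero z _ (r - H26TF1.scalStalk (k := k) z a * d) ?_ ?_
      · rw [map_sub, map_smul, hu, hv, smul_smul, sub_smul]
      · rw [show r - H26TF1.scalStalk (k := k) z a * d = (r - s * d) + (s - H26TF1.scalStalk (k := k) z a) * d by ring]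
        exact add_mem hs (hm _ ha)

include k in
theorem isFinLocFreeOfRank_two' [IsLocallyNoetherian X] {E U L : X.Modules} (hU : PicF.IsInvertible U) (hL : PicF.IsInvertible L)
    (I : X.IdealSheafData) (hg : genericPoint X ∉ (I.support : Set X))
    (a : U ⟶ E) (b : E ⟶ CohB1.tensorMod L (ClSub.idealMod I)) (w : a ≫ b = 0)
    (hS : (ShortComplex.mk a b w).ShortExact) (hE : FlatMod.IsFinLocFree E) :
    FlatMod.IsFinLocFreeOfRank 2 E := by
  obtain ⟨n, hn⟩ := H22Alg.KModel.exists_rank hE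
  suffices h : n = 2 from h ▸ hn
  let g := genericPoint X
  letI : Field (X.presheaf.stalk g) := inferInstanceAs (Field X.functionField)
  obtain ⟨-, hf, hr⟩ := H25Par.finrank_stalk hn g
  obtain ⟨V, hV, el, c, hel, -⟩ := H10Coh.RegSeq.exists_local hL (0 : Coh.structureModule X ⟶ L) g
  obtain ⟨e₃⟩ := nonempty_stalk_tensor hel (ClSub.idealMod I)
  haveI := H25Euler.isIso_stalk_idealModι I hg
  let u : (Coh.structureModule X).presheaf.stalk g ≃ₗ[X.presheaf.stalk g] X.presheaf.stalk g :=
    (LinearEquiv.ofBijective (LinearMap.toSpanSingleton _ _ (H28Surf.oneAt g)) (H28Surf.oneAt_bijective g)).symm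
  let e₄ := e₃.trans ((LinearEquiv.ofBijective (stalkLin (ClSub.idealModι I) g)
    (ConcreteCategory.bijective_of_isIso ((DerSch.stalkFunctor X g).map (ClSub.idealModι I)))).trans u)
  have hinj := H06Mod.stalk_injective _ hS g
  have hsurj := H06Mod.stalk_surjective _ hS g
  have hk : LinearMap.ker (stalkLin b g) = LinearMap.range (stalkLin a g) :=
    LinearMap.exact_iff.1 (H06Mod.stalk_exact _ hS g)
  haveI := hf
  have h := LinearMap.finrank_range_add_finrank_ker (stalkLin b g)
  rw [hk, LinearMap.range_eq_top.2 hsurj, finrank_top, LinearMap.finrank_range_of_inj hinj, hr] at h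
  obtain ⟨V', hV', el', c', hel', -⟩ := H10Coh.RegSeq.exists_local hU (0 : Coh.structureModule X ⟶ U) g
  have h₁ : Module.finrank (X.presheaf.stalk g) (U.presheaf.stalk g) = 1 :=
    (LinearEquiv.ofBijective (LinearMap.toSpanSingleton _ _ el') hel').symm.finrank_eq.trans (Module.finrank_self _)
  have h₃ : Module.finrank (X.presheaf.stalk g)
      ((CohB1.tensorMod L (ClSub.idealMod I)).presheaf.stalk g) = 1 :=
    e₄.finrank_eq.trans (Module.finrank_self _)
  exact h.symm.trans (congrArg₂ (· + ·) h₃ h₁)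

attribute [local instance 10000] H10Coh.hasSheafifyAb H10Coh.hasWeakSheafifyAb H10Coh.hasExtAb H10Coh.enoughInjAb

theorem main_lci [Smooth (X ↘ Spec (CommRingCat.of k))] (hdim : topologicalKrullDim X = 2)
    (H : X.Modules) (hH : CohB1.IsAmple H)
    (ω : X.Modules) (hω : ExtPow.IsExtPow 2 (Omega.sheaf (X ↘ (Spec (CommRingCat.of k)))) ω)
    (U Uinv L : X.Modules) (hU : PicF.IsInvertible U) (eU : CohB1.tensorMod Uinv U ≅ Coh.structureModule X)
    (hUi : PicF.IsInvertible Uinv) (hL : PicF.IsInvertible L)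
    (IP : X.IdealSheafData) (hfin : (IP.support : Set X).Finite)
    (hlci : ∀ x : X, ∃ V : X.affineOpens, x ∈ (V : X.Opens) ∧
      ∃ a b : Γ(X, V), IP.ideal V = Ideal.span {a, b}) :
    (∃ (E : X.Modules) (i : U ⟶ E) (p : E ⟶ CohB1.tensorMod L (ClSub.idealMod IP)) (w : i ≫ p = 0),
        FlatMod.IsFinLocFreeOfRank 2 E ∧ (ShortComplex.mk i p w).ShortExact) ↔
      (∀ I' : X.IdealSheafData, IP ⋖ I' →
        ∀ σ : Coh.structureModule X ⟶ CohB1.tensorMod (CohB1.tensorMod L Uinv) ω,
          PicF2.zeroScheme (CohB1.tensorMod (CohB1.tensorMod L Uinv) ω) σ ≤ I' →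
            PicF2.zeroScheme (CohB1.tensorMod (CohB1.tensorMod L Uinv) ω) σ ≤ IP) := by
  classical
  haveI := H10Coh.Stab.isLocallyNoetherian_of_proper (Z := X) k
  haveI : SmoothOfRelativeDimension 2 (X ↘ Spec (CommRingCat.of k)) :=
    H27CurveDiv.smoothOfRelativeDimension_of_dim _ 2 hdim
  haveI : IsGrothendieckAbelian.{u} X.Modules := H10Coh.isGrothendieckAbelian_sheafOfModules _
  haveI : EnoughInjectives X.Modules := inferInstance
  haveI : HasExt.{u} X.Modules := inferInstance
  have hreg : ∀ x : X, IsRegularLocalRing (X.presheaf.stalk x) := fun x =>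
    H19Grp.isRegularLocalRing_stalk_of_smooth (k := k) (X ↘ Spec (CommRingCat.of k)) x
  have hX : topologicalKrullDim X = ((2 : ℕ) : WithBot ℕ∞) := by exact_mod_cast hdim
  have hωi : PicF.IsInvertible ω := H28RR.isInvertible_canonical (k := k) hdim hω
  -- the duality
  obtain ⟨n, ι, hι, hιq⟩ := H22Alg.CurveProj.exists_closedImmersion k X hH
  obtain ⟨t, ht⟩ := H17.FLI.exists_repDual_topForms ι hιq hω
    (H17.DualSh.add_sub_le (H17.FLI.le_of_nonempty ι hιq) (H17.FLI.dim_le_of_smooth k))
  have hθ : ∀ F : X.Modules, Coh.IsCoh F →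
      Function.Bijective (H17.DualSh.theta t F (one_add_one_eq_two : 1 + 1 = 2)) := fun F hF =>
    H17.DualSh.theta_bijective_range ι hιq (H17.FLI.isCoh_topForms ι hιq hω) ht le_rfl
      (fun q hq _ => H17.DualSh.van_of_cm ι (H17.FLI.smooth_dim k) (H17.FLI.smooth_cm k) q hq) hF one_le_two _
  -- the covering ideals
  obtain ⟨S₀, hS₀, hcl₀, hsoc⟩ := exists_points_socle k hdim IP hfin hlci
  choose d hd hmd hmin using hsoc
  choose J hJcov hdJ hJoff hJspan using fun z : S₀ =>
    exists_cover S₀ hcl₀ IP hS₀.ge z.2 (d z) (hd z) (hmin z)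
  have habove : ∀ I' : X.IdealSheafData, IP < I' → ∃ z : S₀, J z ≤ I' := by
    intro I' hlt
    obtain ⟨x, hx⟩ : ∃ x, ¬ stI I' x ≤ stI IP x := by
      by_contra hcon
      push Not at hcon
      exact hlt.not_ge (le_of_stI hcon)
    have hxS : x ∈ S₀ := by
      by_contra hxS
      exact hx (by rw [stI_eq_top IP fun h => hxS (hS₀.ge h)]; exact le_top)
    refine ⟨⟨x, hxS⟩, le_of_stI fun y => ?_⟩
    by_cases hy : y = x
    · subst hy
      intro r hr
      obtain ⟨s, hs⟩ := hJspan ⟨y, hxS⟩ r hr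
      rw [← sub_add_cancel r (s * d ⟨y, hxS⟩)]
      exact add_mem (stI_mono hlt.le y hs) (Ideal.mul_mem_left _ _ (hmin ⟨y, hxS⟩ _
        (lt_of_le_of_ne (stI_mono hlt.le y) fun e => hx e.ge)))
    · exact ((hJoff ⟨x, hxS⟩ y hy).le).trans (stI_mono hlt.le y)
  -- the twist
  set N := CohB1.tensorMod (CohB1.tensorMod L Uinv) ω with hNdef
  have hN : PicF.IsInvertible N := H11Ample.isInvertible_tensor (H11Ample.isInvertible_tensor hL hUi) hωi
  obtain ⟨N', -, ⟨eN⟩⟩ := H11Sym.exists_inverse hN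
  obtain ⟨L', hL', ⟨eL⟩⟩ := H11Sym.exists_inverse hL
  let M := CohB1.tensorMod L' U
  have hM : PicF.IsInvertible M := H11Ample.isInvertible_tensor hL' hU
  let T := (DCoh.tensorBi (X := X)).obj N
  let V := (DCoh.tensorBi (X := X)).obj L'
  let W := (DCoh.tensorBi (X := X)).obj L
  haveI : T.IsEquivalence := H15Site.Invertible.isEquivalence_of_iso_unit (O := X.sheaf) (L := N) (N := N')
    (H11Ample.tensorCommIso N N' ≪≫ eN)
  haveI : V.IsEquivalence := H15Site.Invertible.isEquivalence_of_iso_unit (O := X.sheaf) (L := L') (N := L) eL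
  haveI : W.IsEquivalence := H15Site.Invertible.isEquivalence_of_iso_unit (O := X.sheaf) (L := L) (N := L')
    (H11Ample.tensorCommIso L L' ≪≫ eL)
  haveI : T.Additive := Functor.additive_of_preserves_binary_products _
  haveI : V.Additive := Functor.additive_of_preserves_binary_products _
  haveI : W.Additive := Functor.additive_of_preserves_binary_products _
  let oM : CohB1.tensorMod L M ≅ U :=
    (H10Coh.Tw.assoc L L' U).symm ≪≫ PicGrp.tensorModIso (H11Ample.tensorCommIso L L' ≪≫ eL) (Iso.refl U) ≪≫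
      H11Ample.tensorLeftUnitIso U
  let LU : CohB1.tensorMod M (CohB1.tensorMod L Uinv) ≅ Coh.structureModule X :=
    (H10Coh.Tw.assoc M L Uinv).symm ≪≫ PicGrp.tensorModIso (H10Coh.Tw.commIso M L ≪≫ oM) (Iso.refl Uinv) ≪≫
      H10Coh.Tw.commIso U Uinv ≪≫ eU
  let j : T.obj M ≅ ω :=
    H10Coh.Tw.commIso N M ≪≫ (H10Coh.Tw.assoc M (CohB1.tensorMod L Uinv) ω).symm ≪≫
      PicGrp.tensorModIso LU (Iso.refl ω) ≪≫ H11Ample.tensorLeftUnitIso ω
  obtain ⟨el, hel⟩ := exists_el hN
  -- notation for the family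
  let φ : ∀ z, ClSub.idealMod IP ⟶ ClSub.idealMod (J z) := fun z => H22Alg.FatPoints.incl (hJcov z).lt.le
  let S : S₀ → ShortComplex X.Modules := fun z =>
    (ShortComplex.mk (φ z) (cokernel.π (φ z)) (cokernel.condition (φ z))).map T
  have hS : ∀ z, (S z).ShortExact := fun z => by
    haveI : Mono (φ z) := inferInstanceAs (Mono (H22Alg.FatPoints.incl _))
    exact (show (ShortComplex.mk (φ z) (cokernel.π (φ z)) (cokernel.condition (φ z))).ShortExact from
      { exact := ShortComplex.exact_cokernel (φ z) }).map_of_exact T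
  have hcoh : ∀ I : X.IdealSheafData, Coh.IsCoh (T.obj (ClSub.idealMod I)) := fun I =>
    H10Coh.isCoh_of_iso (H10Coh.Tw.commIso _ _) (H11Ample.isCoh_tensor (H22Alg.IdealPowFam.isCoh_idealMod I) hN)
  have hlocal : ∀ z : S₀, (∀ x, x ≠ (z : X) → Subsingleton ((S z).X₃.presheaf.stalk x)) ∧
      ∃ v₀ : (S z).X₃.presheaf.stalk (z : X), v₀ ≠ 0 ∧
        ∀ v, ∃ a : k, v = H26TF1.scalStalk (k := k) (z : X) a • v₀ := by
    intro z
    obtain ⟨hoff, v₀, hv₀, hgen⟩ := coker_socle (k := k) (hJcov z).lt.le (hcl₀ _ z.2) (d z) (hd z) (hmd z)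
      (hdJ z) (hJoff z) (hJspan z)
    refine ⟨fun x hx => ?_, ?_⟩
    · obtain ⟨e⟩ := nonempty_stalk_tensor (hel x) (cokernel (φ z))
      haveI := hoff x hx
      exact e.toEquiv.subsingleton
    · obtain ⟨e⟩ := nonempty_stalk_tensor (hel (z : X)) (cokernel (φ z))
      refine ⟨e.symm v₀, fun h => hv₀ (e.symm.injective (h.trans (map_zero _).symm)), fun v => ?_⟩
      obtain ⟨a, ha⟩ := hgen (e v)
      exact ⟨a, e.injective (by rw [map_smul, LinearEquiv.apply_symm_apply]; exact ha)⟩
  have hH1 : ∀ z : S₀, Subsingleton (Coh.HH X (S z).X₃ 1) := fun z =>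
    subsingleton_H1 (hcl₀ _ z.2) (hlocal z).1
  -- sections of the twisted ideal are the sections vanishing on the subscheme
  let iN : ∀ I : X.IdealSheafData, T.obj (ClSub.idealMod I) ⟶ N :=
    fun I => T.map (ClSub.idealModι I) ≫ (H28Vert.tensorRightUnitIso (X := X)).hom.app N
  have hiN : ∀ z, T.map (φ z) ≫ iN (J z) = iN IP := fun z => by
    show T.map (φ z) ≫ T.map _ ≫ _ = T.map _ ≫ _
    rw [← Functor.map_comp_assoc, H22Alg.FatPoints.incl_ι]
  have hsec : ∀ (I : X.IdealSheafData) (σ : Coh.structureModule X ⟶ N),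
      PicF2.zeroScheme N σ ≤ I ↔ ∃ σ', σ' ≫ iN I = σ := by
    intro I σ
    obtain ⟨w, hred⟩ := shortExact_red hN I
    have h0 : PicF2.zeroScheme N σ ≤ I ↔ σ ≫ red N I = 0 := by
      rw [zeroScheme_le_iff el hel hN σ I]
      refine ⟨fun h => H29Omega.eq_zero_of_stalkLin _ fun x a => ?_, fun h x => ?_⟩
      · obtain ⟨r, rfl⟩ := (H28Surf.oneAt_bijective x).2 a
        rw [map_smul, H29Omega.stalkLin_comp, ← smul_coef el hel x (stalkLin σ x (H28Surf.oneAt x)),
          (red_stalk_eq_zero_iff el hel hN I x _).2 (h x), smul_zero]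
      · refine (red_stalk_eq_zero_iff el hel hN I x _).1 ?_
        rw [smul_coef, ← H29Omega.stalkLin_comp, h]
        exact H17.KoszTwist.stalkLin_zero _ _
    rw [h0]
    refine ⟨fun h => ?_, ?_⟩
    · obtain ⟨l, hl⟩ := KernelFork.IsLimit.lift' hred.fIsKernel σ h
      exact ⟨l, hl⟩
    · rintro ⟨σ', rfl⟩
      rw [Category.assoc, w, comp_zero]
  constructor
  · rintro ⟨E, sE, p, w, hE, hex⟩ I' hcov σ hσ
    by_contra hzσ
    obtain ⟨z, hzI⟩ := habove I' hcov.lt
    obtain rfl : J z = I' := (hcov.eq_or_eq (hJcov z).lt.le hzI).resolve_left (hJcov z).lt.ne'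
    obtain ⟨σ', hσ'⟩ := (hsec (J z) σ).1 hσ
    obtain ⟨hoff, v₀, hv₀, hgen⟩ := hlocal z
    have hne : σ' ≫ (S z).g ≠ 0 := fun h => hzσ ((hsec IP σ).2 (by
      obtain ⟨l, hl⟩ := KernelFork.IsLimit.lift' (hS z).fIsKernel σ' h
      refine ⟨l, ?_⟩
      have hl' : l ≫ T.map (φ z) = σ' := hl
      rw [← hiN z, ← Category.assoc, hl', hσ']))
    have hinj := injective_of_section (hS z) (hcl₀ _ z.2) hoff v₀ hgen σ' hne
    -- the extension of the ideal
    let u : V.obj (CohB1.tensorMod L (ClSub.idealMod IP)) ≅ ClSub.idealMod IP :=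
      (H15Site.Invertible.tLComp (O := X.sheaf) L' L).app _ ≪≫
        ((DCoh.tensorBi (X := X)).mapIso eL).app _ ≪≫ (H15Site.ModOver.tensorUnitIso X.sheaf).app _
    let a : M ⟶ V.obj E := V.map sE
    let b := V.map p ≫ u.hom
    have w' : a ≫ b = 0 := by
      show V.map sE ≫ V.map p ≫ u.hom = 0
      rw [← Functor.map_comp_assoc, w, Functor.map_zero, zero_comp]
    have hab : (ShortComplex.mk a b w').ShortExact :=
      ShortComplex.shortExact_of_iso (S₁ := (ShortComplex.mk sE p w).map V)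
        (ShortComplex.isoMk (Iso.refl _) (Iso.refl _) u (by dsimp [a]; rw [Category.comp_id, Category.id_comp]; rfl)
          (by dsimp [b]; rw [Category.id_comp]; rfl)) (hex.map_of_exact V)
    have hF : FlatMod.IsFinLocFree (V.obj E) := H16Derived.KFlat.Stalk.isFinLocFree_tensor
      (H22Alg.KModel.finLocFree_invertible hL') fun x => let ⟨U, hU⟩ := hE x; ⟨U, 2, hU⟩
    have w₁ : (j.inv ≫ T.map a) ≫ T.map b = 0 := by
      rw [Category.assoc, ← Functor.map_comp, w', Functor.map_zero, comp_zero]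
    have h₁ : (ShortComplex.mk (j.inv ≫ T.map a) (T.map b) w₁).ShortExact :=
      ShortComplex.shortExact_of_iso (S₁ := (ShortComplex.mk a b w').map T)
        (ShortComplex.isoMk j (Iso.refl _) (Iso.refl _) (by dsimp; rw [Iso.hom_inv_id_assoc, Category.comp_id]; rfl)
          (by dsimp; rw [Category.id_comp, Category.comp_id]; rfl)) (hab.map_of_exact T)
    obtain ⟨η, hη⟩ := exists_comp_eq t hθ (hS z) (hcoh _) (hcoh _) (hH1 z) h₁.extClass fun x hx => by
      rw [hinj x hx, map_zero]
    obtain ⟨G, aG, bG, wG, hG, rfl⟩ := H28Alg.exists_shortExact_extClass_eq η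
    obtain ⟨g, hg1, hg2⟩ := H28Alg.exists_map_of_extClass_comp h₁ hG (𝟙 ω) (T.map (φ z))
      (by rw [Abelian.Ext.comp_mk₀_id]; exact hη)
    let G₀ := T.objPreimage G
    let eG := T.objObjPreimageIso G
    let a₀ : M ⟶ G₀ := T.preimage (j.hom ≫ aG ≫ eG.inv)
    let b₀ : G₀ ⟶ ClSub.idealMod (J z) := T.preimage (eG.hom ≫ bG)
    have w₀ : a₀ ≫ b₀ = 0 := T.map_injective (by
      rw [Functor.map_comp, Functor.map_preimage, Functor.map_preimage, Functor.map_zero, Category.assoc,
        Category.assoc, Iso.inv_hom_id_assoc]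
      exact (congrArg (j.hom ≫ ·) wG).trans comp_zero)
    have h₀ : (ShortComplex.mk a₀ b₀ w₀).ShortExact :=
      (CategoryTheory.ShortExact.shortExact_map_iff T).1 (ShortComplex.shortExact_of_iso
        (S₁ := ShortComplex.mk aG bG wG)
        (ShortComplex.isoMk j.symm eG.symm (Iso.refl _)
          (by change j.inv ≫ T.map (T.preimage _) = aG ≫ eG.inv; rw [Functor.map_preimage, Iso.inv_hom_id_assoc])
          (by change eG.inv ≫ T.map (T.preimage _) = bG ≫ 𝟙 _; rw [Functor.map_preimage, Iso.inv_hom_id_assoc]; exact (Category.comp_id _).symm)) hG)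
    refine (H7AdjExt.main (k := k) hX hreg M hM IP hfin
      (V.obj E) a b w' hab).2 ⟨J z, G₀, a₀, b₀, w₀, φ z, T.preimage (g ≫ eG.inv), (hJcov z).lt, h₀,
        H22Alg.FatPoints.incl_ι _, T.map_injective ?_, T.map_injective ?_⟩ hF
    · rw [Functor.map_comp, Functor.map_preimage, Functor.map_preimage]
      have hg1' : (j.inv ≫ T.map a) ≫ g = aG := hg1.trans (Category.id_comp _)
      refine Eq.trans ?_ (congrArg (fun q => j.hom ≫ q ≫ eG.inv) hg1')
      simp only [Category.assoc, Iso.hom_inv_id_assoc]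
    · rw [Functor.map_comp, Functor.map_preimage, Functor.map_preimage, Functor.map_comp]
      simp only [Category.assoc, Iso.inv_hom_id_assoc]
      exact hg2
  · intro hcb
    -- a functional missing the kernels
    have hker : ∀ z : S₀, ∃ x : Coh.HH X (T.obj (ClSub.idealMod IP)) 1,
        x ≠ 0 ∧ Canon.HHlin k (S z).f 1 x = 0 := by
      intro z
      obtain ⟨hoff, v₀, hv₀, -⟩ := hlocal z
      refine exists_ne_zero_of_sections (hS z) (hcl₀ _ z.2) hoff (nontrivial_of_ne v₀ 0 hv₀) fun σ' => ?_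
      obtain ⟨l, hl⟩ := (hsec IP (σ' ≫ iN (J z))).1 (hcb _ (hJcov z) _ ((hsec (J z) _).2 ⟨σ', rfl⟩))
      haveI : Mono (iN (J z)) := by
        obtain ⟨w, hred⟩ := shortExact_red hN (J z)
        exact hred.mono_f
      rw [← hiN z, ← Category.assoc, cancel_mono] at hl
      rw [← hl, Category.assoc]
      exact (congrArg (l ≫ ·) (S z).zero).trans comp_zero
    choose c hc0 hck using hker
    obtain ⟨ψ, hψ⟩ := exists_dual_forall_ne_zero (k := k) c hc0
    obtain ⟨ξ, hξ⟩ := (hθ _ (hcoh IP)).2 ψ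
    obtain ⟨G, aG, bG, wG, hG, rfl⟩ := H28Alg.exists_shortExact_extClass_eq ξ
    let F := T.objPreimage G
    let eF := T.objObjPreimageIso G
    let a : M ⟶ F := T.preimage (j.hom ≫ aG ≫ eF.inv)
    let b : F ⟶ ClSub.idealMod IP := T.preimage (eF.hom ≫ bG)
    have w : a ≫ b = 0 := T.map_injective (by
      rw [Functor.map_comp, Functor.map_preimage, Functor.map_preimage, Functor.map_zero, Category.assoc,
        Category.assoc, Iso.inv_hom_id_assoc]
      exact (congrArg (j.hom ≫ ·) wG).trans comp_zero)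
    have hab : (ShortComplex.mk a b w).ShortExact :=
      (CategoryTheory.ShortExact.shortExact_map_iff T).1 (ShortComplex.shortExact_of_iso
        (S₁ := ShortComplex.mk aG bG wG)
        (ShortComplex.isoMk j.symm eF.symm (Iso.refl _)
          (by change j.inv ≫ T.map (T.preimage _) = aG ≫ eF.inv; rw [Functor.map_preimage, Iso.inv_hom_id_assoc])
          (by change eF.inv ≫ T.map (T.preimage _) = bG ≫ 𝟙 _; rw [Functor.map_preimage, Iso.inv_hom_id_assoc]; exact (Category.comp_id _).symm)) hG)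
    have hF : FlatMod.IsFinLocFree F := by
      by_contra hF
      obtain ⟨I', F', a', b', w', φ', g, hlt, hex', hφ', hg1, hg2⟩ :=
        (H7AdjExt.main (k := k) hX hreg M hM IP hfin F a b w hab).1 hF
      obtain ⟨z, hle⟩ := habove I' hlt
      let κ := H22Alg.FatPoints.incl hle
      have hκ : φ z ≫ κ = φ' := by
        haveI : Mono (ClSub.idealModι I') := inferInstanceAs (Mono (kernel.ι _))
        rw [← cancel_mono (ClSub.idealModι I'), Category.assoc, H22Alg.FatPoints.incl_ι, hφ']
        exact H22Alg.FatPoints.incl_ι _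
      have w₂ : (j.inv ≫ T.map a') ≫ T.map b' = 0 := by
        rw [Category.assoc, ← Functor.map_comp, w', Functor.map_zero, comp_zero]
      have h₂ : (ShortComplex.mk (j.inv ≫ T.map a') (T.map b') w₂).ShortExact :=
        ShortComplex.shortExact_of_iso (S₁ := (ShortComplex.mk a' b' w').map T)
          (ShortComplex.isoMk j (Iso.refl _) (Iso.refl _) (by dsimp; rw [Iso.hom_inv_id_assoc, Category.comp_id]; rfl)
            (by dsimp; rw [Category.id_comp, Category.comp_id]; rfl)) (hex'.map_of_exact T)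
      have hcl := S12058.extClass_naturality' hG h₂ (𝟙 ω) (eF.inv ≫ T.map g) (T.map φ')
        (by
          show aG ≫ eF.inv ≫ T.map g = 𝟙 ω ≫ j.inv ≫ T.map a'
          rw [Category.id_comp, ← hg1, Functor.map_comp, Functor.map_preimage]
          simp only [Category.assoc, Iso.inv_hom_id_assoc])
        (by
          show (eF.inv ≫ T.map g) ≫ T.map b' = bG ≫ T.map φ'
          rw [Category.assoc, ← Functor.map_comp, hg2, Functor.map_comp, Functor.map_preimage]
          simp only [Category.assoc, Iso.inv_hom_id_assoc])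
      refine hψ z ?_
      rw [Abelian.Ext.comp_mk₀_id, ← hκ, Functor.map_comp, ← Abelian.Ext.mk₀_comp_mk₀,
        Abelian.Ext.comp_assoc_of_second_deg_zero] at hcl
      rw [← hξ, hcl, H17.DualSh.theta_mk₀_comp]
      exact (congrArg _ (hck z)).trans (map_zero _)
    -- twist back
    let r : W.obj M ≅ U := oM
    have wE : (r.inv ≫ W.map a) ≫ W.map b = 0 := by
      rw [Category.assoc, ← Functor.map_comp, w, Functor.map_zero, comp_zero]
    have hE : (ShortComplex.mk (r.inv ≫ W.map a) (W.map b) wE).ShortExact :=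
      ShortComplex.shortExact_of_iso (S₁ := (ShortComplex.mk a b w).map W)
        (ShortComplex.isoMk r (Iso.refl _) (Iso.refl _) (by dsimp; rw [Iso.hom_inv_id_assoc, Category.comp_id]; rfl)
          (by dsimp; rw [Category.id_comp, Category.comp_id]; rfl)) (hab.map_of_exact W)
    have hWF : FlatMod.IsFinLocFree (W.obj F) :=
      H16Derived.KFlat.Stalk.isFinLocFree_tensor (H22Alg.KModel.finLocFree_invertible hL) hF
    refine ⟨W.obj F, r.inv ≫ W.map a, W.map b, wE, ?_, hE⟩
    refine isFinLocFreeOfRank_two' (k := k) hU hL IP ?_ _ _ wE hE hWF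
    intro hg
    -- the generic point of a surface is not closed
    have hu : ({genericPoint X} : Set X) = Set.univ := by
      rw [← (hcl₀ _ (hS₀.ge hg)).closure_eq]
      exact genericPoint_spec X
    haveI : Subsingleton X := subsingleton_of_forall_eq (genericPoint X) fun x =>
      Set.mem_singleton_iff.1 (hu ▸ Set.mem_univ x)
    have h2 := hX.symm.trans_le (topologicalKrullDim_zero_of_discreteTopology X)
    exact absurd h2 (by norm_cast)

end Groth.Agent.H7CB
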