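import Groth.Agent.H7CB.Local
import Groth.Agent.H25Par.FiniteSupport
import Groth.Agent.H8Props.Watanabe.Socle
import Groth.Agent.H24Hilb.Normal

/-!
# Stalks of ideal sheaves with finite co-support
-/

set_option autoImplicit false
set_option linter.style.haveILetI false
set_option linter.unusedSectionVars false
set_option backward.isDefEq.respectTransparency false
set_option maxHeartbeats 800000
set_option synthInstance.maxHeartbeats 200000

universe u

open CategoryTheory CategoryTheory.Limits AlgebraicGeometry TopologicalSpace Opposite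

noncomputable section

namespace Groth.Agent.H7CB

open Groth.Agent.H06Mod

variable {X : Scheme.{u}}

/-- The stalk of an ideal sheaf, as an ideal of the local ring. -/
abbrev stI (I : X.IdealSheafData) (x : X) : Ideal (X.presheaf.stalk x) :=
  LinearMap.range (H29Omega.idealStalk I x)

theorem smul_mem_range_iff (I : X.IdealSheafData) (x : X) (r : X.presheaf.stalk x) :
    r • H28Surf.oneAt x ∈ LinearMap.range (stalkLin (ClSub.idealModι I) x) ↔ r ∈ stI I x := by
  refine ⟨fun ⟨a, ha⟩ => ⟨a, (H28Surf.oneAt_bijective x).1 ((stalkLin_idealModι _ x a).symm.trans ha)⟩, ?_⟩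
  rintro ⟨a, rfl⟩
  exact ⟨a, stalkLin_idealModι _ x a⟩

theorem toSubscheme_stalk_eq_zero_iff (I : X.IdealSheafData) (x : X) (r : X.presheaf.stalk x) :
    stalkLin (ClSub.toSubscheme I) x (r • H28Surf.oneAt x) = 0 ↔ r ∈ stI I x := by
  haveI := H10Coh.epi_toSubscheme I
  rw [← smul_mem_range_iff]
  exact H06Mod.stalk_exact _ (H10Coh.Hyper.idealSeq_shortExact I) x _

theorem stI_mono {A B : X.IdealSheafData} (h : A ≤ B) (x : X) : stI A x ≤ stI B x := fun r hr => by
  rw [← smul_mem_range_iff] at hr ⊢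
  obtain ⟨a, ha⟩ := hr
  exact ⟨stalkLin (H22Alg.FatPoints.incl h) x a, by rw [← H29Omega.stalkLin_comp, H22Alg.FatPoints.incl_ι, ha]⟩

theorem le_of_stI {A B : X.IdealSheafData} (h : ∀ x, stI A x ≤ stI B x) : A ≤ B := by
  have w : ClSub.idealModι A ≫ ClSub.toSubscheme B = 0 := H29Omega.eq_zero_of_stalkLin _ fun x a => by
    rw [H29Omega.stalkLin_comp, stalkLin_idealModι, toSubscheme_stalk_eq_zero_iff]
    exact h x ⟨a, rfl⟩
  exact H7AdjExt.le_of_fac (kernel.lift (ClSub.toSubscheme B) (ClSub.idealModι A) w) (kernel.lift_ι _ _ _)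

theorem stI_eq_top (I : X.IdealSheafData) {x : X} (hx : x ∉ (I.support : Set X)) : stI I x = ⊤ := by
  haveI := H25Euler.isIso_stalk_idealModι I hx
  refine eq_top_iff.2 fun r _ => (smul_mem_range_iff I x r).1 ?_
  exact (ConcreteCategory.bijective_of_isIso ((DerSch.stalkFunctor X x).map (ClSub.idealModι I))).2 _

theorem stI_eq_map (I : X.IdealSheafData) (V : X.affineOpens) {x : X} (hx : x ∈ V.1) :
    stI I x = (I.ideal V).map (X.presheaf.germ V.1 x hx).hom := H29Omega.range_idealStalk I x V hx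

theorem le_maximalIdeal (I : X.IdealSheafData) {x : X} (hx : x ∈ (I.support : Set X)) :
    stI I x ≤ IsLocalRing.maximalIdeal (X.presheaf.stalk x) := by
  obtain ⟨W, hW, hxW, -⟩ := exists_isAffineOpen_mem_and_subset (U := (⊤ : X.Opens)) (x := x) trivial
  rw [stI_eq_map I ⟨W, hW⟩ hxW, Ideal.map_le_iff_le_comap]
  intro a ha
  rw [Ideal.mem_comap, IsLocalRing.mem_maximalIdeal, mem_nonunits_iff, ← Scheme.mem_basicOpen X a x hxW]
  have h := (I.mem_support_iff_of_mem (U := ⟨W, hW⟩) hxW).1 hx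
  rw [Scheme.mem_zeroLocus_iff] at h
  exact h a ha

/-- At an isolated point of the co-support only the maximal ideal contains the stalk. -/
theorem eq_maximalIdeal_of_le (I : X.IdealSheafData) (hcl : ∀ y ∈ (I.support : Set X), IsClosed ({y} : Set X))
    {x : X} (p : Ideal (X.presheaf.stalk x)) [p.IsPrime] (hp : stI I x ≤ p) :
    p = IsLocalRing.maximalIdeal (X.presheaf.stalk x) := by
  obtain ⟨W, hW, hxW, -⟩ := exists_isAffineOpen_mem_and_subset (U := (⊤ : X.Opens)) (x := x) trivial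
  letI : Algebra Γ(X, W) (X.presheaf.stalk x) := (X.presheaf.germ W x hxW).hom.toAlgebra
  haveI : IsLocalization.AtPrime (X.presheaf.stalk x) (hW.primeIdealOf ⟨x, hxW⟩).asIdeal :=
    hW.isLocalization_stalk ⟨x, hxW⟩
  let P : PrimeSpectrum Γ(X, W) := ⟨p.comap (algebraMap Γ(X, W) (X.presheaf.stalk x)), inferInstance⟩
  have hPW : hW.fromSpec P ∈ W := hW.range_fromSpec.le ⟨P, rfl⟩
  have hle : P ≤ hW.primeIdealOf ⟨x, hxW⟩ := fun a ha => by
    by_contra hu
    exact Ideal.IsPrime.ne_top ‹_› (Ideal.eq_top_of_isUnit_mem p ha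
      (IsLocalization.map_units (X.presheaf.stalk x) (⟨a, hu⟩ : (hW.primeIdealOf ⟨x, hxW⟩).asIdeal.primeCompl)))
  have hsupp : hW.fromSpec P ∈ (I.support : Set X) := by
    refine (I.mem_support_iff_of_mem (U := ⟨W, hW⟩) hPW).2 ?_
    rw [Scheme.mem_zeroLocus_iff]
    intro a ha hb
    have h' : P ∈ hW.fromSpec ⁻¹ᵁ X.basicOpen a := hb
    rw [hW.fromSpec_preimage_basicOpen] at h'
    exact h' (hp (by rw [stI_eq_map I ⟨W, hW⟩ hxW]; exact Ideal.mem_map_of_mem _ ha))
  have hspec : hW.fromSpec P ⤳ x := by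
    have h' := ((PrimeSpectrum.le_iff_specializes _ _).1 hle).map hW.fromSpec.continuous
    rw [hW.fromSpec_primeIdealOf ⟨x, hxW⟩] at h'
    exact h'
  have hx : x = hW.fromSpec P := hspec.mem_closed (hcl _ hsupp) rfl
  have hPeq : P = hW.primeIdealOf ⟨x, hxW⟩ := hW.fromSpec.isOpenEmbedding.injective
    (hx.symm.trans (hW.fromSpec_primeIdealOf ⟨x, hxW⟩).symm)
  rw [← IsLocalization.map_comap (hW.primeIdealOf ⟨x, hxW⟩).asIdeal.primeCompl (X.presheaf.stalk x) p,
    show Ideal.under Γ(X, W) p = (hW.primeIdealOf ⟨x, hxW⟩).asIdeal from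
      congrArg PrimeSpectrum.asIdeal hPeq]
  exact IsLocalization.AtPrime.map_eq_maximalIdeal _ _

/-- A complete intersection point of a regular surface has a socle generator. -/
theorem exists_socle (I : X.IdealSheafData) (hcl : ∀ y ∈ (I.support : Set X), IsClosed ({y} : Set X))
    {x : X} (hx : x ∈ (I.support : Set X)) [IsRegularLocalRing (X.presheaf.stalk x)]
    (hdim : ringKrullDim (X.presheaf.stalk x) = ((2 : ℕ) : WithBot ℕ∞))
    (hlci : ∃ V : X.affineOpens, x ∈ (V : X.Opens) ∧ ∃ a b : Γ(X, V), I.ideal V = Ideal.span {a, b}) :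
    ∃ d : X.presheaf.stalk x, d ∉ stI I x ∧
      (∀ m ∈ IsLocalRing.maximalIdeal (X.presheaf.stalk x), m * d ∈ stI I x) ∧
      ∀ J : Ideal (X.presheaf.stalk x), stI I x < J → d ∈ J := by
  obtain ⟨V, hxV, a, b, hI⟩ := hlci
  let T := X.presheaf.stalk x
  let g := (X.presheaf.germ V.1 x hxV).hom
  let f : Fin 2 → T := ![g a, g b]
  have hspan : stI I x = Ideal.span (Set.range f) := by
    rw [stI_eq_map I V hxV, hI, Ideal.map_span, Set.image_pair]
    rw [show Set.range f = {g a, g b} from Matrix.range_cons_cons_empty _ _ _]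
  obtain ⟨s, hs, hsm⟩ := Submodule.FG.exists_span_set_encard_eq_spanFinrank
    (IsNoetherian.noetherian (IsLocalRing.maximalIdeal T))
  have hcard : s.encard = 2 := by
    rw [hs]
    have := IsRegularLocalRing.spanFinrank_maximalIdeal (R := T)
    rw [hdim] at this
    exact_mod_cast this
  obtain ⟨u, v, -, rfl⟩ := Set.encard_eq_two.1 hcard
  let xs : Fin 2 → T := ![u, v]
  have hxs : IsLocalRing.maximalIdeal T = Ideal.span (Set.range xs) := by
    refine hsm.symm.trans ?_
    rw [show Set.range xs = {u, v} from Matrix.range_cons_cons_empty _ _ _]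
  have hf : ∀ i, f i ∈ IsLocalRing.maximalIdeal T := fun i =>
    le_maximalIdeal I hx (hspan ▸ Ideal.subset_span ⟨i, rfl⟩)
  choose c hc using fun i => Ideal.mem_span_range_iff_exists_fun.1 (hxs ▸ hf i)
  obtain ⟨-, hsoc, hnot, hall⟩ := H8Props.Watanabe.det_socle f xs hxs (Matrix.of c)
    (fun i => ((hc i).symm : f i = ∑ j, c i j * xs j)) (by exact_mod_cast hdim) hf
    fun p hp hle => @eq_maximalIdeal_of_le X I hcl x p hp (hspan ▸ hle)
  refine ⟨(Matrix.of c).det, hspan ▸ hnot, fun m hm => ?_, fun J hJ => hall J (hspan ▸ hJ)⟩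
  obtain ⟨e, rfl⟩ := Ideal.mem_span_range_iff_exists_fun.1 (hxs ▸ hm)
  rw [Finset.sum_mul, hspan]
  exact Submodule.sum_mem _ fun j _ => by
    rw [mul_assoc, mul_comm (xs j)]
    exact Ideal.mul_mem_left _ _ (hsoc j)

/-- Germs of a module with finite support can be prescribed. -/
theorem exists_section_germs (M : X.Modules) (S : Finset X) (hS : ∀ z ∈ S, IsClosed ({z} : Set X))
    (h : ∀ y, y ∉ S → Subsingleton (M.presheaf.stalk y)) (v : ∀ z : X, M.presheaf.stalk z) :
    ∃ t : Γ(M, ⊤), ∀ z ∈ S, M.presheaf.germ ⊤ z trivial t = v z := by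
  classical
  have hfl := H25Par.flasque_of_finite_support (H10Coh.sh M) S.finite_toSet hS h
  have single : ∀ z ∈ S, ∃ t : Γ(M, ⊤), M.presheaf.germ ⊤ z trivial t = v z ∧
      ∀ y, y ≠ z → M.presheaf.germ ⊤ y trivial t = 0 := by
    intro z hz
    obtain ⟨U, hzU, s, hs⟩ := M.presheaf.exists_germ_eq (v z)
    let O : X.Opens := ⟨((S.erase z : Finset X) : Set X)ᶜ, by
      rw [isOpen_compl_iff, ← Set.biUnion_of_singleton ((S.erase z : Finset X) : Set X)]
      exact (S.erase z).finite_toSet.isClosed_biUnion fun a ha => hS a (Finset.mem_of_mem_erase ha)⟩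
    let U₁ : X.Opens := U ⊓ O
    let U₂ : X.Opens := ⟨({z} : Set X)ᶜ, (hS z hz).isOpen_compl⟩
    let B : ULift.{u} Bool → X.Opens := fun b => if b.down then U₁ else U₂
    let sc : ∀ b, (H10Coh.sh M).obj.obj (op (B b)) := fun b =>
      if hb : b.down = true then M.presheaf.map (homOfLE (show B b ≤ U by
        simp only [B, hb, if_true]; exact inf_le_left)).op s else 0
    have hcmp : TopCat.Presheaf.IsCompatible (H10Coh.sh M).obj B sc := by
      intro a b
      rcases a with ⟨a⟩; rcases b with ⟨b⟩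
      have hz0 : ∀ W : X.Opens, W ≤ U₁ → W ≤ U₂ → ∀ w w' : (H10Coh.sh M).obj.obj (op W), w = w' := fun W h1 h2 w w' =>
        TopCat.Presheaf.section_ext (H10Coh.sh M) W w w' fun y hy => (h y fun hyS =>
          (h1 hy).2 (Finset.mem_erase.2 ⟨h2 hy, hyS⟩)).elim _ _
      cases a <;> cases b
      · rfl
      · exact hz0 _ inf_le_right inf_le_left _ _
      · exact hz0 _ inf_le_left inf_le_right _ _
      · rfl
    obtain ⟨t, ht, -⟩ := TopCat.Sheaf.existsUnique_gluing (F := H10Coh.sh M) B sc hcmp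
    have hcov : (⊤ : X.Opens) ≤ iSup B := fun y _ => by
      by_cases hyz : y = z
      · exact Opens.mem_iSup.2 ⟨⟨true⟩, by
          show y ∈ U₁
          rw [hyz]
          exact ⟨hzU, fun hm => (Finset.mem_erase.1 hm).1 rfl⟩⟩
      · exact Opens.mem_iSup.2 ⟨⟨false⟩, hyz⟩
    let t' : Γ(M, ⊤) := M.presheaf.map (homOfLE hcov).op t
    have key : ∀ (b : ULift.{u} Bool) (y : X) (hy : y ∈ B b), M.presheaf.germ ⊤ y trivial t' =
        M.presheaf.germ (B b) y hy (sc b) := fun b y hy => by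
      rw [show t' = M.presheaf.map (homOfLE hcov).op t from rfl, M.presheaf.germ_res_apply]
      rw [← ht b]
      exact (M.presheaf.germ_res_apply (Opens.leSupr B b) y hy t).symm
    refine ⟨t', ?_, fun y hy => ?_⟩
    · have hz1 : z ∈ B ⟨true⟩ := ⟨hzU, fun hm => (Finset.mem_erase.1 hm).1 rfl⟩
      rw [key ⟨true⟩ z hz1, ← hs]
      exact M.presheaf.germ_res_apply _ _ _ _
    · rw [key ⟨false⟩ y hy]
      exact map_zero _
  choose t ht ht' using single
  refine ⟨∑ z ∈ S.attach, t z.1 z.2, fun z hz => ?_⟩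
  rw [map_sum, Finset.sum_eq_single ⟨z, hz⟩ (fun b _ hb => ht' b.1 b.2 z fun e => hb (Subtype.ext e.symm))
    (fun h => absurd (Finset.mem_attach _ _) h)]
  exact ht z hz

end Groth.Agent.H7CB
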